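import Cfsg.Agent.J4Type.Rep.Glue
import Cfsg.Agent.J4Type.BaseAct
import Cfsg.Agent.J4Type.Act

/-!
# Explicit coordinates for a group of Janko-four type
-/

set_option autoImplicit false

open Cfsg Subgroup

namespace Cfsg.Agent.J4Type.Rep

open Cfsg.Agent.J4Type.Base

universe u

variable {G : Type u} [Group G] [Finite G] {z : G} {P : Subgroup G} {V : Type*} [AddCommGroup V]

theorem gammaZero_rhoM (z : G) (P : Subgroup G) :
    gammaZero (rhoM z P) = (permHom (rho z P)).range := by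
  ext g
  constructor
  · rintro ⟨m, hm, rfl⟩
    exact ⟨QuotientGroup.mk ⟨m.1, mem_subgroupOf.1 hm⟩, Equiv.ext fun v =>
      (rhoM_mk z P ⟨m.1, mem_subgroupOf.1 hm⟩ v).symm⟩
  · rintro ⟨d, rfl⟩
    obtain ⟨c, rfl⟩ := QuotientGroup.mk_surjective d
    exact ⟨⟨c.1, cSub_le_mSub z P c.2⟩, mem_subgroupOf.2 c.2, Equiv.ext fun v => rhoM_mk z P c v⟩

theorem polar_add {π : ↥(LargeExtra.oc z) →* Multiplicative V} {ρ : ↥(mSub z P) →* Equiv.Perm V}
    {q : V → ZMod 2} (D : ActData z P π ρ q) (a b c : V) :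
    polar2 q a (b + c) = polar2 q a b + polar2 q a c := by
  obtain ⟨e, he, rfl⟩ := D.exists_vec a
  obtain ⟨f, hf, rfl⟩ := D.exists_vec b
  obtain ⟨g, hg, rfl⟩ := D.exists_vec c
  rw [← vec_mul hf hg]
  have hfg := mul_mem hf hg
  have two : ∀ x : ZMod 2, x = 0 ∨ x = 1 := by decide
  have key : ∀ {x}, x ∈ LargeExtra.oc z →
      (Commute e x → e * x * e⁻¹ = x) ∧ (e * x * e⁻¹ = x → Commute e x) :=
    fun _ => ⟨fun h => by rw [h.eq, mul_inv_cancel_right], fun h => mul_inv_eq_iff_eq_mul.1 h⟩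
  have hzf : ∀ {x}, x ∈ LargeExtra.oc z → x * z = z * x := fun hx =>
    (D.comm_z (LargeExtra.oc_le z hx)).eq
  have val : ∀ {x}, x ∈ LargeExtra.oc z →
      (polar2 q (vec π e) (vec π x) = 0 ∧ e * x * e⁻¹ = x) ∨
      (polar2 q (vec π e) (vec π x) = 1 ∧ e * x * e⁻¹ = x * z) := by
    intro x hx
    rcases D.comm_cases he hx with h | h
    · exact Or.inl ⟨(D.polar_eq he hx).2 ((key hx).2 h), h⟩
    · refine Or.inr ⟨(two _).resolve_left fun h0 => ?_, h⟩
      have := (key hx).1 ((D.polar_eq he hx).1 h0)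
      rw [h] at this
      exact D.z_ne (mul_eq_left.1 this)
  have hprod : e * (f * g) * e⁻¹ = e * f * e⁻¹ * (e * g * e⁻¹) := by group
  rcases val hf with ⟨u1, w1⟩ | ⟨u1, w1⟩ <;> rcases val hg with ⟨u2, w2⟩ | ⟨u2, w2⟩ <;>
    rcases val hfg with ⟨u3, w3⟩ | ⟨u3, w3⟩ <;> rw [u1, u2, u3] <;>
    rw [hprod, w1, w2] at w3
  all_goals first
    | rfl
    | decide
    | (exfalso
       refine D.z_ne ?_
       have gz := hzf hg
       have zgz : z * (g * z) = g := by rw [gz, ← mul_assoc, D.zz, one_mul]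
       simp [mul_assoc, zgz, ← gz] at w3
       exact w3)

theorem q_invariant {π : ↥(LargeExtra.oc z) →* Multiplicative V} {ρ : ↥(mSub z P) →* Equiv.Perm V}
    {q : V → ZMod 2} (D : ActData z P π ρ q) (m : ↥(mSub z P)) (v : V) : q (ρ m v) = q v := by
  obtain ⟨e, he, rfl⟩ := D.exists_vec v
  have hm := m.2
  rw [← act_of_mem (ρ := ρ) hm, ← D.vec_conj hm he]
  have hc := D.conj_mem hm.1 he
  have h1 := D.sq_eq_one hc
  have h2 := D.sq_eq_one he
  have hi : (m : G) * e * (m : G)⁻¹ * ((m : G) * e * (m : G)⁻¹) = 1 ↔ e * e = 1 := by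
    rw [show (m : G) * e * (m : G)⁻¹ * ((m : G) * e * (m : G)⁻¹) = m * (e * e) * (m : G)⁻¹ by group,
      conj_eq_one_iff]
  have two : ∀ x : ZMod 2, x = 0 ∨ x = 1 := by decide
  have hiff : q (vec π ((m : G) * e * (m : G)⁻¹)) = 0 ↔ q (vec π e) = 0 := h1.symm.trans (hi.trans h2)
  rcases two (q (vec π e)) with h | h
  · rw [h]; exact hiff.2 h
  · rw [h]
    exact (two _).resolve_left fun h0 => one_ne_zero (h.symm.trans (hiff.1 h0))

theorem q_nonzero (hJ : IsOfJankoFourTypeWith z P) : ∃ v, qf z v ≠ 0 := by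
  by_contra hcon
  push Not at hcon
  have D := actData hJ
  have hcomm : ∀ {a b}, a ∈ LargeExtra.oc z → b ∈ LargeExtra.oc z → a * b = b * a := fun ha hb =>
    ((D.polar_eq ha hb).1 (by simp [polar2, hcon])).eq
  haveI := Base.finite_V hJ
  haveI : Nontrivial (Base.V z) := Finite.one_lt_card_iff_nontrivial.1 (by rw [card_V hJ]; norm_num)
  obtain ⟨v, hv⟩ := exists_ne (0 : Base.V z)
  obtain ⟨e, he, rfl⟩ := D.exists_vec v
  exact hv ((D.vec_eq_zero he).2 (centre_cases hJ he fun b hb => hcomm he hb))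

/-- **The coordinates in a group of Janko-four type.** -/
theorem exists_model_base (hJ : IsOfJankoFourTypeWith z P) :
    ∃ (B : List (Base.V z)) (gx gy gf gw gt : Equiv.Perm (Base.V z)),
      Model (rhoM z P).range (gammaZero (rhoM z P)) (qf z) B gx gy gf gw gt := by
  obtain ⟨π, p, C, hker⟩ := exists_cover_mem hJ
  have D := actData hJ
  haveI := Base.finite_V hJ
  have hinj := rho_injective hJ
  obtain ⟨n, hn, hnc, hninv⟩ := Base.exists_outer hJ
  let m : ↥(mSub z P) := ⟨n, hn⟩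
  refine exists_model C hinj (two_V hJ) (card_V hJ) (gammaZero_rhoM z P) ?_ ?_ ?_ (s := rhoM z P m)
    (MonoidHom.mem_range.2 ⟨m, rfl⟩) ?_ ?_ ?_ ?_ ?_ (q_nonzero hJ)
  · rintro _ ⟨a, -, rfl⟩
    exact ⟨a, rfl⟩
  · rintro _ ⟨a, rfl⟩ v w
    exact map_add (Base.act z ⟨a.1, a.2.1⟩) v w
  · rintro _ ⟨a, rfl⟩ _ ⟨b, hb, rfl⟩
    refine ⟨a * b * a⁻¹, mem_subgroupOf.2 ?_, by rw [map_mul, map_mul, map_inv]⟩
    have hb' : (b : G) ∈ cSub z P := mem_subgroupOf.1 hb
    refine ⟨(centralizer ({z} : Set G)).mul_mem ((centralizer ({z} : Set G)).mul_mem a.2.1 hb'.1)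
      ((centralizer ({z} : Set G)).inv_mem a.2.1), mem_centralizer_iff.2 fun q hq => ?_⟩
    have hq' : (a : G)⁻¹ * q * a ∈ P := by
      have := (mem_normalizer_iff.1 (inv_mem a.2.2) q).1 hq
      rwa [inv_inv] at this
    have hc : (a : G)⁻¹ * q * a * b = b * ((a : G)⁻¹ * q * a) := mem_centralizer_iff.1 hb'.2 _ hq'
    calc q * ((a : G) * b * (a : G)⁻¹) = a * ((a : G)⁻¹ * q * a * b) * (a : G)⁻¹ := by group
      _ = (a : G) * b * (a : G)⁻¹ * q := by rw [hc]; group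
      _ = _ := rfl
  · -- inversion of the scalar
    have hp1 : π p = 1 := by
      rw [← MonoidHom.mem_ker, C.ker]
      exact mem_zpowers p
    obtain ⟨c, rfl⟩ := QuotientGroup.mk_surjective p
    obtain ⟨e, he, q, hq, hcq⟩ := hker c hp1
    have hqC : q ∈ CP z P := P_le_CP hJ hq
    have hmk : (QuotientGroup.mk c : Q z P) = QuotientGroup.mk ⟨q, hqC⟩ := by
      rw [QuotientGroup.eq, mem_subgroupOf]
      have hqe : q * e = e * q := by
        rcases zpowers_cases hJ he with h | h <;> rw [h]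
        · simp
        · exact mem_Hz.1 (P_le hJ hq)
      change (c : G)⁻¹ * q ∈ zpowers z
      rw [show (c : G) = e * q from hcq, ← hqe, mul_inv_rev, mul_assoc, inv_mul_cancel, mul_one]
      exact inv_mem he
    rw [hmk, ← QuotientGroup.mk_inv]
    have e1 : ∀ d : ↥(CP z P), permHom (rho z P) (QuotientGroup.mk d) =
        rhoM z P ⟨d.1, cSub_le_mSub z P d.2⟩ := fun d => Equiv.ext fun v => (rhoM_mk z P d v).symm
    rw [e1, e1, ← map_inv, ← map_mul, ← map_mul]
    refine congrArg _ (Subtype.ext ?_)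
    exact hninv q hq
  · rintro _ ⟨a, rfl⟩
    by_cases ha : (a : G) ∈ cSub z P
    · exact Or.inl ⟨a, mem_subgroupOf.2 ha, rfl⟩
    · refine Or.inr ⟨m * a, mem_subgroupOf.2 ?_, map_mul _ _ _⟩
      exact (mul_mem_CP_iff hJ hn a.2).2 (iff_of_false hnc ha)
  · have h := D.vec_z
    rw [← h, ← D.sq_eq_one D.z_mem]
    exact D.zz
  · intro a b c
    exact polar_add D a b c
  · rintro _ ⟨a, rfl⟩ v
    exact q_invariant D a v

end Cfsg.Agent.J4Type.Rep
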