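import Cfsg.Agent.Compute.Mathieu
import Cfsg.Agent.Compute.M24Base
import Cfsg.Agent.Compute.Chain

/-!
# Standard generators of M22 and their relations
-/

set_option autoImplicit false
set_option maxRecDepth 100000

namespace Cfsg.Agent.J4Type.Rep

open Cfsg Cfsg.Agent.Compute
open scoped Pointwise

/-- The generator of order eleven. -/
def gx : ℕ := 0xbb6ca8242b91475730d1a4c8243ce0

/-- The generator of order five. -/
def gy : ℕ := 0xbd103111a683ed571d2a62e658c820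

/-- The generator of order four. -/
def gf : ℕ := 0xbacef291d1a36081a83565a5330920

/-- Membership test for M22. -/
noncomputable def inM22 (g : ℕ) : Bool :=
  inM24B g && Nat.beq (rep24.act g 23) 23 && Nat.beq (rep24.act g 0) 0

theorem mem_m22 (g : ℕ) (h : inM22 g = true) : rep24.Ok g ∧ rep24.den g ∈ Cfsg.Spor.M22 := by
  simp only [inM22, Bool.and_eq_true, Nat.beq_eq] at h
  obtain ⟨⟨h0, h23⟩, h00⟩ := h
  obtain ⟨hok, hm⟩ := mem_M24_of_check h0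
  refine ⟨hok, ⟨hm, MulAction.mem_stabilizer_iff.2 ?_⟩, MulAction.mem_stabilizer_iff.2 ?_⟩
  · have e := rep24.act_spec g 23 hok (show 23 < rep24.n from (by decide : 23 < 24))
    rw [h23, rep24_pt23] at e
    exact e
  · have e := rep24.act_spec g 0 hok (show 0 < rep24.n from (by decide : 0 < 24))
    rw [h00, rep24_pt0] at e
    exact e

/-- The code of a power. -/
noncomputable def gpow (g n : ℕ) : ℕ := Nat.rec (motive := fun _ => ℕ) rep24.one (fun _ r => rep24.mul r g) n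

/-- A straight-line program for the strong generators. -/
def m22Slp : List SlpStep := [
  ⟨0xb8dac598ee491162d6615404f8ca80, 1, 1, false⟩,
  ⟨0xba07574e8530a2d25a0762df20a540, 4, 1, false⟩,
  ⟨0xb91867c854ac4a70d9436a26e5a600, 5, 3, false⟩,
  ⟨0xb9496a2a0194d6c89d0233dc91d5a0, 6, 1, false⟩,
  ⟨0xbc4d272670b2c2219da4615547d500, 7, 3, false⟩,
  ⟨0xb8d96551739060479d061452e2d5a0, 8, 3, false⟩,
  ⟨0xbd8c5aba119c86c0890723d495d1a0, 9, 2, false⟩,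
  ⟨0xb8ec28a1a172966931f02d5343cc80, 10, 1, false⟩,
  ⟨0xbc8ae4d14d12c303b09630d11acde0, 11, 3, false⟩,
  ⟨0xb864c691e7a22a55c06a72633b08c0, 12, 1, false⟩,
  ⟨0xbb15614ea93d032438702adb1790c0, 13, 2, false⟩,
  ⟨0xba0a76c695b05307b8ca9326259060, 14, 3, false⟩,
  ⟨0xba50ea986f8cd650c1943b44455a40, 15, 1, false⟩,
  ⟨0xbba8ab116d7c52899d90286a219a40, 16, 2, false⟩,
  ⟨0xbb990995ed1d8ca89c28ad0825c920, 2, 3, false⟩,
  ⟨0xbc10b908d468dccb54275466479520, 18, 2, false⟩,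
  ⟨0xbba15a053614de81b2265c8853b540, 19, 1, false⟩,
  ⟨0xbbdccb4543090f09a249ad0ad30960, 20, 1, false⟩,
  ⟨0xbcea12b48a61c693216e83e36a0a40, 21, 3, false⟩,
  ⟨0xb9a0c8d8e408d4ea22554cda578960, 22, 3, false⟩,
  ⟨0xbb2af11553204d01a6487522d3d960, 23, 2, false⟩,
  ⟨0xb99899c9632c4f50c28a789b6411c0, 24, 1, false⟩,
  ⟨0xb85e56da2b49c6a441cca9a5311280, 25, 3, false⟩,
  ⟨0xb8c305ba88b484f3a8d12b664626a0, 26, 1, false⟩,
  ⟨0xb886a41aa774d8193db482c898d8a0, 27, 1, false⟩,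
  ⟨0xbca0e22675530f48bca3088c85d9a0, 28, 3, false⟩,
  ⟨0xb9e4fa95b14997065053711161a820, 29, 1, false⟩,
  ⟨0xbda873242e24e287d56d188b254180, 2, 1, false⟩,
  ⟨0xbbc642ca613c5cd555944592614160, 31, 3, false⟩,
  ⟨0xba90749a3323834155636be45b4180, 32, 3, false⟩,
  ⟨0xb89a4915d138663b5588a28c97c160, 33, 3, false⟩,
  ⟨0xbcc558b176299ed08d4e2493041e80, 34, 1, false⟩,
  ⟨0xb84854c0cbabece40e826cd9191d40, 35, 3, false⟩,
  ⟨0xbd8235d148832447ba662a627155a0, 36, 1, false⟩,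
  ⟨0xb8cc2a9e49442c16166e23d71551a0, 37, 2, false⟩,
  ⟨0xbb0885c6121592e515a608cf57d260, 38, 3, false⟩,
  ⟨0xba5859366a89de4b387042eb430820, 39, 1, false⟩,
  ⟨0xbd911ad0f32bd503382c225b258860, 40, 3, false⟩,
  ⟨0xb98856c9e78aa6c5b86885a9548820, 41, 3, false⟩,
  ⟨0xb954913c87621c18d68db0ccb84a60, 4, 3, false⟩,
  ⟨0xbb8b53d27179a0a40464489726b2c0, 43, 1, false⟩,
  ⟨0xba12f5c8d3ac224686c553a8713060, 44, 3, false⟩,
  ⟨0xbc5019d86d95049811c67acec2d540, 45, 1, false⟩,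
  ⟨0xb84c5ab04b6ca28a3dc44c2671d940, 46, 2, false⟩,
  ⟨0xbd12d99e422c5641bd4640595859c0, 47, 3, false⟩,
  ⟨0xbae8f129c33b209890326ceb631500, 48, 1, false⟩,
  ⟨0xbc5a7ad98e7c072311144ad4299420, 49, 3, false⟩,
  ⟨0xb9e932886b73e2d8250491aaa65820, 50, 2, false⟩,
  ⟨0xbcc8cb2a265b8f47c9096c0b518820, 51, 2, false⟩,
  ⟨0xbaa28788735c9b62d0ccaba040a4e0, 1, 2, false⟩,
  ⟨0xb96ab812434366c0d0f1b284f724c0, 53, 3, false⟩,
  ⟨0xbccb419cc1209d56b1525c1e98a2c0, 54, 1, false⟩,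
  ⟨0xbd251425d00926512d4cab46f31ec0, 55, 2, false⟩,
  ⟨0xb8aa11bc8e8ce0c32ed22d12869d40, 56, 3, false⟩,
  ⟨0xbc04b759467a5b59b28408d07944a0, 57, 1, false⟩,
  ⟨0xbcc2f41d2a5b4c4930a2ac2ce1c680, 58, 3, false⟩,
  ⟨0xbcaabb39a9799421b28124ce8844a0, 59, 3, false⟩,
  ⟨0xbac308a1534be553128c10ec76b8a0, 60, 2, false⟩,
  ⟨0xbc9649d0a6459a17d46a844ee62440, 61, 1, false⟩,
  ⟨0xbbe083bac5234ca6544b0ca938a460, 62, 3, false⟩,
  ⟨0xb99f52886c752306aa5641e6959020, 63, 1, false⟩,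
  ⟨0xbd6cb22627638cfa224a834b318820, 64, 2, false⟩,
  ⟨0xbb554998e514031959c343c8962ea0, 53, 1, false⟩,
  ⟨0xbc90222607a04a365aaa8b4d37adc0, 66, 3, false⟩,
  ⟨0xb96563d5cc499e808db01126b55220, 67, 1, false⟩,
  ⟨0xbbca363621acd523208eb1d7482440, 68, 1, false⟩,
  ⟨0xb9ad55d2711a82e8204593dac3a480, 69, 3, false⟩,
  ⟨0xbd4a74b02f88cd6548487416d9d080, 70, 2, false⟩,
  ⟨0xb9ab27888a62e651da013a5b4445c0, 71, 1, false⟩,
  ⟨0xbc8288d269530d559e1628ded209c0, 72, 2, false⟩,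
  ⟨0xbacaa7b5934193621dc1aca9118a00, 73, 3, false⟩,
  ⟨0xba5679ba046d06535a4c53e220a2a0, 74, 1, false⟩,
  ⟨0xb9d814086f2352ba2a5629a7183aa0, 75, 2, false⟩,
  ⟨0xba4ea7cab414e0c6acc30a22eb10a0, 76, 1, false⟩,
  ⟨0xbc12ba18ad946c79b11553dc418820, 77, 1, false⟩]

theorem gens_mem : inM22 gx = true ∧ inM22 gy = true ∧ inM22 gf = true := by decide +kernel

theorem slp_ok : rep24.slpCheck m22Slp [rep24.one, gx, gy, gf] m24aL2.gens = true := by decide +kernel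

theorem rels_ok : (Nat.beq (gpow gx 11) rep24.one && Nat.beq (gpow gy 5) rep24.one &&
    Nat.beq (gpow gf 4) rep24.one && Nat.beq (rep24.mul gy gx) (rep24.mul (gpow gx 4) gy) &&
    Nat.beq (rep24.mul gf gy) (rep24.mul (gpow gy 2) gf) &&
    Nat.beq (gpow (rep24.mul (rep24.mul gx gy) gf) 5) rep24.one) = true := by decide +kernel

theorem gpow_spec {g : ℕ} (h : rep24.Ok g) : ∀ n, rep24.Ok (gpow g n) ∧
    rep24.den (gpow g n) = rep24.den g ^ n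
  | 0 => ⟨rep24.ok_one, by rw [pow_zero]; exact rep24.den_one⟩
  | n + 1 => by
    obtain ⟨h1, h2⟩ := gpow_spec h n
    exact ⟨rep24.ok_mul _ _ h1 h, (rep24.den_mul _ _ h1 h).trans (by rw [h2, pow_succ])⟩

/-- The generators as elements of M22. -/
noncomputable def mx : ↥Spor.M22 := ⟨rep24.den gx, (mem_m22 gx gens_mem.1).2⟩

/-- The generators as elements of M22. -/
noncomputable def my : ↥Spor.M22 := ⟨rep24.den gy, (mem_m22 gy gens_mem.2.1).2⟩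

/-- The generators as elements of M22. -/
noncomputable def mf : ↥Spor.M22 := ⟨rep24.den gf, (mem_m22 gf gens_mem.2.2).2⟩

theorem m22_rels : mx ^ 11 = 1 ∧ my ^ 5 = 1 ∧ mf ^ 4 = 1 ∧ my * mx = mx ^ 4 * my ∧
    mf * my = my ^ 2 * mf ∧ (mx * my * mf) ^ 5 = 1 := by
  have ox := (mem_m22 gx gens_mem.1).1
  have oy := (mem_m22 gy gens_mem.2.1).1
  have of' := (mem_m22 gf gens_mem.2.2).1
  have h := rels_ok
  simp only [Bool.and_eq_true, Nat.beq_eq] at h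
  obtain ⟨⟨⟨⟨⟨h1, h2⟩, h3⟩, h4⟩, h5⟩, h6⟩ := h
  have d : ∀ {a b : ℕ}, a = b → rep24.den a = rep24.den b := fun h => congrArg _ h
  have o2 := rep24.ok_mul _ _ ox oy
  have o3 := rep24.ok_mul _ _ o2 of'
  refine ⟨Subtype.ext ?_, Subtype.ext ?_, Subtype.ext ?_, Subtype.ext ?_, Subtype.ext ?_, Subtype.ext ?_⟩
  · simpa [(gpow_spec ox 11).2, rep24.den_one, mx] using d h1
  · simpa [(gpow_spec oy 5).2, rep24.den_one, my] using d h2
  · simpa [(gpow_spec of' 4).2, rep24.den_one, mf] using d h3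
  · simpa [rep24.den_mul _ _ oy ox, rep24.den_mul _ _ (gpow_spec ox 4).1 oy, (gpow_spec ox 4).2, mx, my]
      using d h4
  · simpa [rep24.den_mul _ _ of' oy, rep24.den_mul _ _ (gpow_spec oy 2).1 of', (gpow_spec oy 2).2,
      mf, my] using d h5
  · simpa [(gpow_spec o3 5).2, rep24.den_mul _ _ o2 of', rep24.den_mul _ _ ox oy, rep24.den_one,
      mx, my, mf] using d h6

theorem m22_generators : Subgroup.closure ({mx, my, mf} : Set ↥Spor.M22) = ⊤ := by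
  refine Subgroup.map_injective Spor.M22.subtype_injective ?_
  rw [MonoidHom.map_closure, ← MonoidHom.range_eq_map, Subgroup.range_subtype]
  refine le_antisymm ((Subgroup.closure_le _).2 ?_) ?_
  · rintro _ ⟨u, -, rfl⟩
    exact u.2
  · conv_lhs => rw [m22_eq, Rep.chainGroup, Rep.span]
    rw [Subgroup.closure_le]
    rintro _ ⟨t, ht, rfl⟩
    refine (rep24.slp_sound m22Slp _ m24aL2.gens _ ?_ slp_ok t ht).2
    intro c hc
    simp only [List.mem_cons, List.not_mem_nil, or_false] at hc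
    rcases hc with rfl | rfl | rfl | rfl
    · exact ⟨rep24.ok_one, by rw [rep24.den_one]; exact one_mem _⟩
    · exact ⟨(mem_m22 _ gens_mem.1).1, Subgroup.subset_closure ⟨mx, by simp, rfl⟩⟩
    · exact ⟨(mem_m22 _ gens_mem.2.1).1, Subgroup.subset_closure ⟨my, by simp, rfl⟩⟩
    · exact ⟨(mem_m22 _ gens_mem.2.2).1, Subgroup.subset_closure ⟨mf, by simp, rfl⟩⟩

end Cfsg.Agent.J4Type.Rep
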