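import Cfsg.Agent.J4Type.Rep.Main
import Cfsg.Agent.J4Type.Rep.M22Gen

/-!
# The module of a perfect triple cover of M22 on twelve dimensions over two elements
-/

set_option autoImplicit false

namespace Cfsg.Agent.J4Type.Rep

open Cfsg
open scoped commutatorElement

variable {Q : Type*} [Group Q] {V : Type*} [AddCommGroup V]

theorem five_eq (r : ℕ) (hr : r < 4096) : five F0 r = app Wm (app Wm r) := by
  have h : ((List.range 4096).all fun r => Nat.beq (five F0 r) (app Wm (app Wm r))) = true := by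
    decide +kernel
  exact beqE (List.all_eq_true.1 h r (List.mem_range.2 hr))

theorem exists_lift {M : Type*} [Group M] {π : Q →* M} (hπ : Function.Surjective π)
    (hker : ∀ q, π q = 1 → q ^ 3 = 1) {u : M} {n k : ℕ} (hu : u ^ n = 1) (hk : 3 ∣ k)
    (hkn : k % n = 1) : ∃ U : Q, π U = u ∧ U ^ n = 1 := by
  obtain ⟨U₀, rfl⟩ := hπ u
  refine ⟨U₀ ^ k, ?_, ?_⟩
  · rw [map_pow, ← Nat.mod_add_div k n, hkn, pow_add, pow_mul, hu, one_pow, pow_one, mul_one]
  · obtain ⟨j, rfl⟩ := hk
    rw [← pow_mul, show 3 * j * n = n * 3 * j by ring, pow_mul, pow_mul,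
      hker (U₀ ^ n) (by rw [map_pow, hu]), one_pow]

/-- The data of a perfect triple cover of M22 with fixed-point-free central element. -/
structure CoverData (π : Q →* ↥Spor.M22) (p : Q) (ρ : Q →* AddMonoid.End V) : Prop where
  surj : Function.Surjective π
  ker : π.ker = Subgroup.zpowers p
  ord : orderOf p = 3
  central : p ∈ Subgroup.center Q
  perfect : p ∈ commutator Q
  free : ∀ v, ρ p v = v → v = 0
  simple : IsSimpleGroup ↥Spor.M22

variable {π : Q →* ↥Spor.M22} {p : Q} {ρ : Q →* AddMonoid.End V}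

theorem CoverData.mem_ker (C : CoverData π p ρ) {q : Q} (h : π q = 1) :
    q = 1 ∨ q = p ∨ q = p * p := by
  have hq : q ∈ Subgroup.zpowers p := by rw [← C.ker]; exact h
  obtain ⟨n, rfl⟩ := Subgroup.mem_zpowers_iff.1 hq
  rw [← zpow_mod_orderOf, C.ord]
  have h1 := Int.emod_nonneg n (show (3 : ℤ) ≠ 0 by norm_num)
  have h2 := Int.emod_lt_of_pos n (show (0 : ℤ) < 3 by norm_num)
  interval_cases h : n % 3
  · exact Or.inl (by norm_num [h])
  · exact Or.inr (Or.inl (by norm_num [h]))
  · exact Or.inr (Or.inr (zpow_two p))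

theorem CoverData.ker_cube (C : CoverData π p ρ) {q : Q} (h : π q = 1) : q ^ 3 = 1 := by
  have hp : p ^ 3 = 1 := by rw [← C.ord]; exact pow_orderOf_eq_one p
  rcases C.mem_ker h with rfl | rfl | rfl
  · exact one_pow 3
  · exact hp
  · rw [← pow_two, ← pow_mul, mul_comm, pow_mul, hp, one_pow]

theorem CoverData.eq_of_pow (C : CoverData π p ρ) {a b : Q} {n : ℕ} (hn : n.Coprime 3)
    (h : π a = π b) (ha : a ^ n = 1) (hb : b ^ n = 1) : a = b := by
  have hd : π (a * b⁻¹) = 1 := by rw [map_mul, map_inv, h, mul_inv_cancel]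
  have hc : a * b⁻¹ ∈ Subgroup.center Q := by
    rcases C.mem_ker hd with e | e | e <;> rw [e]
    · exact one_mem _
    · exact C.central
    · exact mul_mem C.central C.central
  have e : (a * b⁻¹) ^ n = 1 := by
    have hcomm : Commute (a * b⁻¹) b := (Subgroup.mem_center_iff.1 hc b).symm
    have h1 := hcomm.mul_pow n
    rw [inv_mul_cancel_right, ha, hb, mul_one] at h1
    exact h1.symm
  have h3 := C.ker_cube hd
  have := pow_gcd_eq_one.2 ⟨e, h3⟩
  rw [hn, pow_one] at this
  exact mul_inv_eq_one.1 this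

/-- **The normal form.**  The cover is generated by lifts of the standard generators, acting with the
matrices `Xm`, `Ym` and `F0`, while `p` or its square acts as `Wm`. -/
theorem CoverData.normal_form [Finite V] (C : CoverData π p ρ) (h2 : ∀ v : V, v + v = 0)
    (hV : Nat.card V = 4096) : ∃ (x y f w : Q) (B : List V), π x = mx ∧ π y = my ∧ π f = mf ∧
      x ^ 11 = 1 ∧ y ^ 5 = 1 ∧ f ^ 4 = 1 ∧ (w = p ∨ w = p * p) ∧
      Subgroup.closure ({x, y, f} : Set Q) = ⊤ ∧ B.length = 12 ∧
      Frame B (ρ x) (ρ y) (ρ w) ∧ Acts B (ρ f) F0 := by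
  obtain ⟨r1, r2, r3, r4, r5, r6⟩ := m22_rels
  obtain ⟨x, hx, x11⟩ := exists_lift C.surj (fun q h => C.ker_cube h) r1 (k := 12) (by norm_num)
    (by norm_num)
  obtain ⟨y, hy, y5⟩ := exists_lift C.surj (fun q h => C.ker_cube h) r2 (k := 6) (by norm_num)
    (by norm_num)
  obtain ⟨f, hf, f4⟩ := exists_lift C.surj (fun q h => C.ker_cube h) r3 (k := 9) (by norm_num)
    (by norm_num)
  have xy : y * x = x ^ 4 * y := by
    have e : y * x * y⁻¹ = x ^ 4 := C.eq_of_pow (n := 11) (by norm_num)
      (by simp [hx, hy, r4]) (by rw [conj_pow, x11]; group)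
      (by rw [← pow_mul, mul_comm, pow_mul, x11, one_pow])
    rw [← e]; group
  have fy : f * y = y ^ 2 * f := by
    have e : f * y * f⁻¹ = y ^ 2 := C.eq_of_pow (n := 5) (by norm_num)
      (by simp [hy, hf, r5]) (by rw [conj_pow, y5]; group)
      (by rw [← pow_mul, mul_comm, pow_mul, y5, one_pow])
    rw [← e]; group
  have hrel : π ((x * y * f) ^ 5) = 1 := by rw [map_pow, map_mul, map_mul, hx, hy, hf, r6]
  have wc : ∀ q, ρ p * ρ q = ρ q * ρ p := fun q => by
    rw [← map_mul, ← map_mul, (Subgroup.mem_center_iff.1 C.central q).symm]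
  have xne : ρ x ≠ 1 := by
    intro h
    have hnorm : (ρ.ker.map π).Normal := Subgroup.Normal.map inferInstance π C.surj
    haveI := C.simple
    rcases hnorm.eq_bot_or_eq_top with hb | ht
    · have : π x = 1 := by
        have : π x ∈ ρ.ker.map π := ⟨x, MonoidHom.mem_ker.2 h, rfl⟩
        rwa [hb, Subgroup.mem_bot] at this
      have hx1 : mx ≠ 1 := by
        intro e
        have e1 := congrArg (fun u : ↥Spor.M22 => (u : Equiv.Perm GolayPt) (some 1)) e
        have hne : Compute.rep24.act gx 1 ≠ 1 := by decide +kernel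
        refine hne (Compute.rep24.pt_inj _ _ ?_ (by decide : 1 < 24) ?_)
        · exact Compute.rep24.act_lt _ _ (mem_m22 gx gens_mem.1).1 (by decide : 1 < 24)
        · rw [← Compute.rep24.act_spec gx 1 (mem_m22 gx gens_mem.1).1 (by decide : 1 < 24)]
          have := congrArg Subtype.val (hx ▸ this)
          exact (congrArg (fun g => g • Compute.rep24.pt 1) this).trans (one_smul _ _)
      exact hx1 (hx ▸ this)
    · have hsup : ρ.ker ⊔ Subgroup.zpowers p = ⊤ := by
        rw [← C.ker, ← Subgroup.comap_map_eq, ht, Subgroup.comap_top]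
      haveI : (ρ.ker).Normal := inferInstance
      have hcomm : ∀ a b : Q, ⁅a, b⁆ ∈ ρ.ker := by
        have hdec : ∀ a : Q, ∃ k ∈ ρ.ker, ∃ z ∈ Subgroup.center Q, a = k * z := by
          intro a
          have ha : a ∈ ρ.ker ⊔ Subgroup.zpowers p := by rw [hsup]; exact Subgroup.mem_top a
          obtain ⟨k, hk, z, hz, rfl⟩ := Subgroup.mem_sup_of_normal_left.1 ha
          exact ⟨k, hk, z, (Subgroup.zpowers_le.2 C.central) hz, rfl⟩
        intro a b
        obtain ⟨k, hk, z, hz, rfl⟩ := hdec a
        rw [MonoidHom.mem_ker, commutatorElement_def]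
        obtain ⟨k', hk', z', hz', rfl⟩ := hdec b
        have e : k * z * (k' * z') * (k * z)⁻¹ * (k' * z')⁻¹ = k * k' * k⁻¹ * k'⁻¹ := by
          have c1 := Subgroup.mem_center_iff.1 hz
          have c2 := Subgroup.mem_center_iff.1 hz'
          calc k * z * (k' * z') * (k * z)⁻¹ * (k' * z')⁻¹
              = k * (z * (k' * z')) * z⁻¹ * k⁻¹ * z'⁻¹ * k'⁻¹ := by group
            _ = k * k' * (z' * k⁻¹) * z'⁻¹ * k'⁻¹ := by rw [← c1 (k' * z')]; group
            _ = _ := by rw [← c2 k⁻¹]; group
        rw [e]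
        exact ρ.ker.mul_mem (ρ.ker.mul_mem (ρ.ker.mul_mem hk hk') (inv_mem hk)) (inv_mem hk')
      have hpk : p ∈ ρ.ker := by
        have : commutator Q ≤ ρ.ker := Subgroup.commutator_le.2 fun a _ b _ => hcomm a b
        exact this C.perfect
      haveI : Nontrivial V := Finite.one_lt_card_iff_nontrivial.1 (by omega)
      obtain ⟨v, hv⟩ := exists_ne (0 : V)
      exact hv (C.free v (by rw [MonoidHom.mem_ker.1 hpk, one_apply']))
  have R : Rels (ρ x) (ρ y) (ρ f) (ρ p) :=
    { xy := by rw [← map_pow, ← map_mul, ← map_mul, xy]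
      x11 := by rw [← map_pow, x11, map_one]
      y5 := by rw [← map_pow, y5, map_one]
      f4 := by rw [← map_pow, f4, map_one]
      fy := by rw [← map_pow, ← map_mul, ← map_mul, fy]
      wx := wc x
      wy := wc y
      wf := wc f
      w3 := by rw [← map_pow, ← C.ord, pow_orderOf_eq_one, map_one]
      wfree := C.free
      xne := xne
      rel := by
        rw [← map_mul, ← map_mul, ← map_pow, ← map_mul]
        rcases C.mem_ker hrel with e | e | e <;> rw [e]
        · exact Or.inl (map_one ρ)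
        · exact Or.inr (Or.inl rfl)
        · exact Or.inr (Or.inr rfl) }
  obtain ⟨B, W', hW', hB, P, hF⟩ := exists_basis h2 hV R
  obtain ⟨w, hw, rfl⟩ : ∃ w, (w = p ∨ w = p * p) ∧ ρ w = W' := by
    rcases hW' with rfl | rfl
    · exact ⟨p, Or.inl rfl, rfl⟩
    · exact ⟨p * p, Or.inr rfl, map_mul ρ p p⟩
  refine ⟨x, y, f, w, B, hx, hy, hf, x11, y5, f4, hw, ?_, hB, P, hF⟩
  set H := Subgroup.closure ({x, y, f} : Set Q) with hH
  have hmap : H.map π = ⊤ := by
    rw [hH, MonoidHom.map_closure, ← m22_generators]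
    simp [Set.image_insert_eq, hx, hy, hf]
  have hnt : (x * y * f) ^ 5 ≠ 1 := by
    intro e
    have hz : ∀ u, ρ w (ρ w u) = u := by
      intro u
      obtain ⟨r, hr, rfl⟩ := P.code u
      rw [P.w, P.w]
      have h5 : ∀ s, ((ρ x * ρ y * ρ f) ^ 5) (lin B s) = lin B (five F0 s) := by
        intro s
        have e : ∀ r, (ρ x * ρ y * ρ f) (lin B r) = lin B (prodXYF F0 r) := fun r => by
          rw [mul_apply', mul_apply', hF, P.y, P.x]; rfl
        rw [pow_succ_apply, pow_succ_apply, pow_succ_apply, pow_succ_apply, pow_one, e, e, e, e, e]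
        rfl
      rw [← five_eq r hr, ← h5, ← map_mul, ← map_mul, ← map_pow, e, map_one, one_apply']
    obtain ⟨v, hv⟩ := (⟨lin B 1, fun h => absurd (P.eq_code (by norm_num) (by norm_num)
      (h.trans (lin_zero B).symm)) one_ne_zero⟩ : ∃ v : V, v ≠ 0)
    refine hv (C.free v ?_)
    rcases hw with rfl | rfl
    · have := hz v
      have h3 : ρ w (ρ w (ρ w v)) = v := by
        rw [← mul_apply', ← mul_apply', ← map_mul, ← map_mul, show w * w * w = w ^ 3 by
          simp only [pow_succ, pow_zero, one_mul], ← C.ord, pow_orderOf_eq_one, map_one, one_apply']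
      rw [this] at h3
      exact h3
    · have := hz v
      rw [← mul_apply', ← map_mul, show p * p * (p * p) = p ^ 3 * p by
        simp only [pow_succ, pow_zero, one_mul, mul_assoc], ← C.ord, pow_orderOf_eq_one, one_mul]
        at this
      exact this
  have hp : p ∈ H := by
    have hm : (x * y * f) ^ 5 ∈ H :=
      pow_mem (mul_mem (mul_mem (Subgroup.subset_closure (by simp)) (Subgroup.subset_closure (by simp)))
        (Subgroup.subset_closure (by simp))) 5
    rcases C.mem_ker hrel with e | e | e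
    · exact absurd e hnt
    · exact e ▸ hm
    · have := mul_mem (e ▸ hm : p * p ∈ H) (e ▸ hm : p * p ∈ H)
      rwa [show p * p * (p * p) = p ^ 3 * p by simp only [pow_succ, pow_zero, one_mul, mul_assoc],
        ← C.ord, pow_orderOf_eq_one, one_mul] at this
  have e := congrArg (Subgroup.comap π) hmap
  rw [Subgroup.comap_map_eq, Subgroup.comap_top, C.ker] at e
  rw [eq_top_iff, ← e]
  exact sup_le le_rfl (Subgroup.zpowers_le.2 hp)

end Cfsg.Agent.J4Type.Rep
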