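import Cfsg.Agent.J4Type.Rep.Checks

/-!
# Elements of order eleven and five on a space of dimension twelve over two elements
-/

set_option autoImplicit false

namespace Cfsg.Agent.J4Type.Rep

variable {V : Type*} [AddCommGroup V]

theorem mul_apply' (S T : AddMonoid.End V) (v : V) : (S * T) v = S (T v) := rfl

theorem one_apply' (v : V) : (1 : AddMonoid.End V) v = v := rfl

theorem pow_succ_apply (T : AddMonoid.End V) (n : ℕ) (v : V) : (T ^ (n + 1)) v = T ((T ^ n) v) := by
  rw [pow_succ', mul_apply']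

theorem pow_fix {T : AddMonoid.End V} {v : V} (h : T v = v) : ∀ n, (T ^ n) v = v
  | 0 => rfl
  | n + 1 => by rw [pow_succ_apply, pow_fix h n, h]

theorem fix_of_pow_fix {T : AddMonoid.End V} {m : ℕ} {v : V} (hm : T ^ m = 1) {k j : ℕ}
    (hkj : k * j % m = 1) (h : (T ^ k) v = v) : T v = v := by
  have h1 : ((T ^ k) ^ j) v = v := pow_fix h j
  rwa [← pow_mul, ← Nat.mod_add_div (k * j) m, hkj, pow_add, pow_one, pow_mul, hm, one_pow,
    mul_one] at h1

/-- The number of fixed points of a map of prime order. -/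
theorem card_fixed_modEq {α : Type*} [Finite α] {f : α → α} {p : ℕ} [hp : Fact p.Prime]
    (hf : f^[p] = id) : Nat.card α ≡ Nat.card {x : α // f x = x} [MOD p] := by
  classical
  letI := Fintype.ofFinite α
  let F : Function.End α := f
  have h : F ^ p ^ 1 = 1 := by
    rw [pow_one]
    funext x
    have : ∀ n, (F ^ n) x = f^[n] x := by
      intro n
      induction n with
      | zero => rfl
      | succ n ih => rw [pow_succ', Function.iterate_succ_apply']; exact congrArg f ih
    rw [this, hf]; rfl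
  have := Equiv.Perm.card_fixedPoints_modEq (α := α) h
  rw [Nat.card_eq_fintype_card, Nat.card_eq_fintype_card]
  refine this.trans ?_
  rw [Fintype.card_congr (Equiv.refl _)]
  rfl

/-- The powers of the element of order eleven on a vector. -/
def BK (X : AddMonoid.End V) (v : V) : List V := (List.range 10).map (fun i => (X ^ i) v)

theorem BK_get (X : AddMonoid.End V) (v : V) {i : ℕ} (h : i < (BK X v).length) :
    (BK X v)[i] = (X ^ i) v := by
  simp only [BK, List.getElem_map, List.getElem_range]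

theorem BK_length (X : AddMonoid.End V) (v : V) : (BK X v).length = 10 := by simp [BK]

/-- The sum of the powers. -/
def Nn (X : AddMonoid.End V) (v : V) : V := ∑ j ∈ Finset.range 11, (X ^ j) v

variable {X : AddMonoid.End V}

theorem Nn_add (a b : V) : Nn X (a + b) = Nn X a + Nn X b := by
  simp [Nn, Finset.sum_add_distrib]

theorem Nn_X (hX : X ^ 11 = 1) (v : V) : Nn X (X v) = Nn X v := by
  simp only [Nn, ← mul_apply', ← pow_succ]
  rw [Finset.sum_range_succ, hX, Finset.sum_range_succ' (fun j => (X ^ j) v) 10]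
  rfl

theorem X_Nn (hX : X ^ 11 = 1) (v : V) : X (Nn X v) = Nn X v := by
  rw [Nn, map_sum]
  simp only [← mul_apply', ← pow_succ']
  rw [Finset.sum_range_succ, hX, Finset.sum_range_succ' (fun j => (X ^ j) v) 10]
  rfl

theorem nsmul_eleven (h2 : ∀ v : V, v + v = 0) (b : V) : 11 • b = b := by
  have : (2 : ℕ) • b = 0 := by rw [two_nsmul]; exact h2 b
  rw [show (11 : ℕ) = 2 * 5 + 1 from rfl, add_nsmul, mul_comm, mul_nsmul', this, nsmul_zero, zero_add,
    one_nsmul]

theorem Nn_fix (h2 : ∀ v : V, v + v = 0) {b : V} (h : X b = b) : Nn X b = b := by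
  rw [Nn, Finset.sum_congr rfl (fun j _ => pow_fix h j), Finset.sum_const, Finset.card_range,
    nsmul_eleven h2]

theorem acts_BK (h2 : ∀ v : V, v + v = 0) {a : V} (ha : Nn X a = 0) : Acts (BK X a) X Xk := by
  refine acts_of_map h2 ?_
  have e : (X ^ 10) a = ∑ i ∈ Finset.range 10, (X ^ i) a := by
    have h := ha
    rw [Nn, Finset.sum_range_succ] at h
    exact ((add_eq_zero_iff_eq_neg.1 h).trans (neg_eq_of_add_eq_zero_left (h2 _))).symm
  have hp : ∀ i, i < 10 → lin (BK X a) (2 ^ i) = (X ^ i) a := by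
    intro i hi
    rw [lin_two_pow _ _ (by rw [BK_length]; exact hi), BK_get]
  have hl : lin (BK X a) 1023 = ∑ i ∈ Finset.range 10, (X ^ i) a := by
    simp only [BK, List.range_succ, List.range_zero, List.nil_append, List.cons_append, List.map_cons,
      List.map_nil, lin, Finset.sum_range_succ, Finset.sum_range_zero]
    norm_num
    abel
  refine List.ext_getElem (by simp [BK_length, Xk]) fun i h₁ h₂ => ?_
  have hi : i < 10 := by simpa [BK_length] using h₁
  rw [List.getElem_map, List.getElem_map]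
  rw [BK_get, ← pow_succ_apply]
  rcases lt_or_eq_of_le (Nat.le_of_lt_succ (show i < 9 + 1 from hi)) with h9 | rfl
  · rw [show Xk[i]'(by simpa [Xk] using hi) = 2 ^ (i + 1) by interval_cases i <;> rfl,
      hp (i + 1) (by omega)]
  · rw [show Xk[9]'(by simp [Xk]) = 1023 from rfl, hl]
    exact e

theorem lin_BK_one (a : V) : lin (BK X a) 1 = a := by
  rw [show (1 : ℕ) = 2 ^ 0 from rfl, lin_two_pow _ _ (by rw [BK_length]; norm_num), BK_get,
    pow_zero, one_apply']

theorem Nn_lin {a : V} (hX : X ^ 11 = 1) (ha : Nn X a = 0) (r : ℕ) : Nn X (lin (BK X a) r) = 0 := by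
  let φ : V →+ V := AddMonoidHom.mk' (Nn X) Nn_add
  have hp : ∀ i, Nn X ((X ^ i) a) = 0 := by
    intro i
    induction i with
    | zero => exact ha
    | succ i ih => rw [pow_succ_apply, Nn_X hX, ih]
  have h0 : ∀ (L : List V) (s : ℕ), (∀ v ∈ L, Nn X v = 0) → φ (lin L s) = 0 := by
    intro L
    induction L with
    | nil => intro s _; exact map_zero φ
    | cons b L ih =>
      intro s h
      rw [lin_cons, map_add, ih _ fun v hv => h v (List.mem_cons_of_mem b hv), add_zero]
      split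
      · exact h b List.mem_cons_self
      · exact map_zero φ
  exact h0 _ r fun v hv => by
    obtain ⟨i, -, rfl⟩ := List.mem_map.1 hv
    exact hp i

theorem lin_BK_eq_zero (h2 : ∀ v : V, v + v = 0) {a : V} (hA : Acts (BK X a) X Xk) (ha0 : a ≠ 0)
    {r : ℕ} (hr : r < 1024) (h : lin (BK X a) r = 0) : r = 0 := by
  by_contra hne
  have hc := List.all_eq_true.1 inv10_ok r (List.mem_range.2 hr)
  simp only [Bool.or_eq_true, Bool.and_eq_true, Nat.beq_eq, hne, false_or] at hc
  have hz : ∀ v ∈ (iterX r).map (lin (BK X a)), v = 0 := by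
    intro v hv
    rw [iterX, List.map_map] at hv
    obtain ⟨i, -, rfl⟩ := List.mem_map.1 hv
    rw [Function.comp_apply, ← hA.it, h, map_zero]
  have h0 : ∀ (L : List V) (s : ℕ), (∀ v ∈ L, v = 0) → lin L s = 0 := by
    intro L
    induction L with
    | nil => intro s _; rfl
    | cons b L ih =>
      intro s h
      rw [lin_cons, ih _ fun v hv => h v (List.mem_cons_of_mem b hv), add_zero, h b List.mem_cons_self,
        ite_self]
  have h1 := lin_app h2 (BK X a) (iterX r) (inv10 r)
  rw [hc.2, lin_BK_one, h0 _ _ hz] at h1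
  exact ha0 h1

theorem lin_BK_inj (h2 : ∀ v : V, v + v = 0) {a : V} (hA : Acts (BK X a) X Xk) (ha0 : a ≠ 0)
    {r s : ℕ} (hr : r < 1024) (hs : s < 1024) (h : lin (BK X a) r = lin (BK X a) s) : r = s := by
  have h0 : lin (BK X a) (r ^^^ s) = 0 := by rw [lin_xor h2, h, h2]
  have := lin_BK_eq_zero h2 hA ha0 (Nat.xor_lt_two_pow (n := 10) hr hs) h0
  exact Nat.eq_of_testBit_eq fun i => by
    have e := congrArg (fun n => Nat.testBit n i) this
    simp only [Nat.testBit_xor, Nat.zero_testBit] at e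
    revert e
    cases r.testBit i <;> cases s.testBit i <;> simp

theorem split_zero (h2 : ∀ v : V, v + v = 0) (hX : X ^ 11 = 1) {a b : V} (ha : Nn X a = 0)
    (ha0 : a ≠ 0) (hb : X b = b) {r : ℕ} (hr : r < 1024) (h : lin (BK X a) r + b = 0) :
    r = 0 ∧ b = 0 := by
  have e := congrArg (Nn X) h
  rw [Nn_add, Nn_lin hX ha, Nn_fix h2 hb, zero_add, Nn, Finset.sum_congr rfl
    (fun j _ => map_zero (X ^ j)), Finset.sum_const_zero] at e
  rw [e, add_zero] at h
  exact ⟨lin_BK_eq_zero h2 (acts_BK h2 ha) ha0 hr h, e⟩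

/-- The pairs of a combination of the powers and a fixed vector map injectively. -/
theorem split_injective (h2 : ∀ v : V, v + v = 0) (hX : X ^ 11 = 1) {a : V} (ha : Nn X a = 0)
    (ha0 : a ≠ 0) : Function.Injective
      (fun p : Fin 1024 × {v : V // X v = v} => lin (BK X a) p.1.1 + p.2.1) := by
  rintro ⟨r, b⟩ ⟨s, c⟩ h
  have h' : lin (BK X a) r + (b : V) = lin (BK X a) s + (c : V) := h
  have hz : lin (BK X a) (r.1 ^^^ s.1) + ((b : V) + c) = 0 := by
    rw [lin_xor h2, add_add_add_comm, h', h2]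
  obtain ⟨h0, hbc⟩ := split_zero h2 hX ha ha0 (by rw [map_add, b.2, c.2])
    (Nat.xor_lt_two_pow (n := 10) r.2 s.2) hz
  have hbc' : (b : V) = c := by
    have := congrArg (· + (c : V)) hbc
    simp only [add_assoc, h2, add_zero, zero_add] at this
    exact this
  rw [hbc'] at h'
  exact Prod.ext (Fin.ext (lin_BK_inj h2 (acts_BK h2 ha) ha0 r.2 s.2 (add_right_cancel h')))
    (Subtype.ext hbc')

theorem exists_mem_kernel (h2 : ∀ v : V, v + v = 0) (hX : X ^ 11 = 1) (hne : X ≠ 1) :
    ∃ a, a ≠ 0 ∧ Nn X a = 0 := by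
  by_contra h
  push Not at h
  refine hne (DFunLike.ext _ _ fun v => ?_)
  rw [one_apply']
  by_contra hv
  refine h (v + Nn X v) (fun hz => hv ?_) ?_
  · have : v = Nn X v := by
      have := congrArg (· + Nn X v) hz
      simpa [add_assoc, h2] using this
    rw [this, X_Nn hX]
  · rw [Nn_add, Nn_fix h2 (X_Nn hX v), h2]

/-- The fixed space of an element of order eleven has four elements, and the pairs are all. -/
theorem card_fixed_eq_four [Finite V] (h2 : ∀ v : V, v + v = 0) (hV : Nat.card V = 4096)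
    (hX : X ^ 11 = 1) (hne : X ≠ 1) : Nat.card {v : V // X v = v} = 4 := by
  obtain ⟨a, ha0, ha⟩ := exists_mem_kernel h2 hX hne
  have hle := Nat.card_le_card_of_injective _ (split_injective h2 hX ha ha0)
  rw [Nat.card_prod, Nat.card_fin, hV] at hle
  haveI : Fact (Nat.Prime 11) := ⟨by norm_num⟩
  have hm := card_fixed_modEq (p := 11) (f := fun v => X v) (by
    funext v
    have : ∀ n, (fun v => X v)^[n] v = (X ^ n) v := by
      intro n
      induction n with
      | zero => rfl
      | succ n ih => rw [Function.iterate_succ_apply', ih, pow_succ_apply]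
    rw [this, hX]; rfl)
  rw [hV, Nat.ModEq] at hm
  omega

theorem split_bijective [Finite V] (h2 : ∀ v : V, v + v = 0) (hV : Nat.card V = 4096)
    (hX : X ^ 11 = 1) (hne : X ≠ 1) {a : V} (ha : Nn X a = 0) (ha0 : a ≠ 0) : Function.Bijective
      (fun p : Fin 1024 × {v : V // X v = v} => lin (BK X a) p.1.1 + p.2.1) :=
  (Nat.bijective_iff_injective_and_card _).2 ⟨split_injective h2 hX ha ha0,
    by rw [Nat.card_prod, Nat.card_fin, card_fixed_eq_four h2 hV hX hne, hV]⟩

theorem exists_code_of_kernel [Finite V] (h2 : ∀ v : V, v + v = 0) (hV : Nat.card V = 4096)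
    (hX : X ^ 11 = 1) (hne : X ≠ 1) {a v : V} (ha : Nn X a = 0) (ha0 : a ≠ 0) (hv : Nn X v = 0) :
    ∃ r, r < 1024 ∧ v = lin (BK X a) r := by
  obtain ⟨⟨r, b⟩, h⟩ := (split_bijective h2 hV hX hne ha ha0).2 v
  have h' : lin (BK X a) r + (b : V) = v := h
  refine ⟨r, r.2, ?_⟩
  have hb : (b : V) = 0 := by
    have e := congrArg (Nn X) h'
    rw [Nn_add, Nn_lin hX ha, Nn_fix h2 b.2, hv, zero_add] at e
    exact e
  rw [← h', hb, add_zero]

variable {Y : AddMonoid.End V}

theorem Y_pow (hYX : Y * X = X ^ 4 * Y) : ∀ j, Y * X ^ j = X ^ (4 * j) * Y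
  | 0 => by simp
  | j + 1 => by
    rw [pow_succ, ← mul_assoc, Y_pow hYX j, mul_assoc, hYX, ← mul_assoc, ← pow_add, Nat.mul_succ]

theorem Y_fix (hX : X ^ 11 = 1) (hYX : Y * X = X ^ 4 * Y) {b : V} (h : X b = b) :
    X (Y b) = Y b := by
  refine fix_of_pow_fix hX (k := 4) (j := 3) (by norm_num) ?_
  rw [← mul_apply', ← hYX, mul_apply', h]

theorem Y_kernel (hX : X ^ 11 = 1) (hYX : Y * X = X ^ 4 * Y) {v : V} (hv : Nn X v = 0) :
    Nn X (Y v) = 0 := by
  have e : ∀ j, (X ^ j) (Y v) = Y ((X ^ (3 * j)) v) := by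
    intro j
    rw [← mul_apply', ← mul_apply', Y_pow hYX, show 4 * (3 * j) = 11 * j + j by ring, pow_add,
      pow_mul, hX, one_pow, one_mul]
  have hs : ∑ j ∈ Finset.range 11, (X ^ (3 * j)) v = Nn X v := by
    simp only [Finset.sum_range_succ, Finset.sum_range_zero, Nn]
    simp only [pow_zero, pow_one, show X ^ (3 * 0) = 1 from pow_zero X,
      pow_eq_pow_mod (3 * 4) hX, pow_eq_pow_mod (3 * 5) hX, pow_eq_pow_mod (3 * 6) hX,
      pow_eq_pow_mod (3 * 7) hX, pow_eq_pow_mod (3 * 8) hX, pow_eq_pow_mod (3 * 9) hX,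
      pow_eq_pow_mod (3 * 10) hX]
    norm_num
    abel
  rw [Nn, Finset.sum_congr rfl fun j _ => e j, ← map_sum, hs, hv, map_zero]

theorem iterate_apply (T : AddMonoid.End V) {α : Type*} (ι : α → V) (g : α → α)
    (hg : ∀ x, ι (g x) = T (ι x)) : ∀ n x, ι (g^[n] x) = (T ^ n) (ι x)
  | 0, x => rfl
  | n + 1, x => by rw [Function.iterate_succ_apply', hg, iterate_apply T ι g hg n, pow_succ_apply]

theorem fixes_plane [Finite V] (h2 : ∀ v : V, v + v = 0) (hV : Nat.card V = 4096)
    (hX : X ^ 11 = 1) (hne : X ≠ 1) (hY : Y ^ 5 = 1) (hYX : Y * X = X ^ 4 * Y) {b : V}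
    (hb : X b = b) : Y b = b := by
  have h4 := card_fixed_eq_four h2 hV hX hne
  let g : {v : V // X v = v} → {v : V // X v = v} := fun x => ⟨Y x, Y_fix hX hYX x.2⟩
  haveI : Fact (Nat.Prime 5) := ⟨by norm_num⟩
  have hm := card_fixed_modEq (p := 5) (f := g) (by
    funext x
    refine Subtype.ext ((iterate_apply Y Subtype.val g (fun _ => rfl) 5 x).trans ?_)
    rw [hY]; rfl)
  rw [h4, Nat.ModEq] at hm
  have hle := Finite.card_subtype_le (fun x => g x = x)
  rw [h4] at hle
  by_contra hne'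
  have hlt : Nat.card {x // g x = x} < 4 := h4 ▸ Finite.card_subtype_lt (x := ⟨b, hb⟩)
    (fun h => hne' (congrArg Subtype.val h))
  omega

theorem exists_fixed_kernel [Finite V] (h2 : ∀ v : V, v + v = 0) (hV : Nat.card V = 4096)
    (hX : X ^ 11 = 1) (hne : X ≠ 1) (hY : Y ^ 5 = 1) (hYX : Y * X = X ^ 4 * Y) :
    ∃ v, v ≠ 0 ∧ Nn X v = 0 ∧ Y v = v := by
  obtain ⟨a, ha0, ha⟩ := exists_mem_kernel h2 hX hne
  let K := {v : V // Nn X v = 0}
  have hcard : Nat.card K = 1024 := by
    rw [← Nat.card_fin 1024]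
    refine (Nat.card_eq_of_bijective (fun r : Fin 1024 => (⟨_, Nn_lin hX ha r.1⟩ : K)) ⟨?_, ?_⟩).symm
    · exact fun r s h => Fin.ext (lin_BK_inj h2 (acts_BK h2 ha) ha0 r.2 s.2 (congrArg Subtype.val h))
    · rintro ⟨v, hv⟩
      obtain ⟨r, hr, rfl⟩ := exists_code_of_kernel h2 hV hX hne ha ha0 hv
      exact ⟨⟨r, hr⟩, rfl⟩
  let g : K → K := fun x => ⟨Y x, Y_kernel hX hYX x.2⟩
  haveI : Fact (Nat.Prime 5) := ⟨by norm_num⟩
  have hm := card_fixed_modEq (p := 5) (f := g) (by
    funext x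
    refine Subtype.ext ((iterate_apply Y Subtype.val g (fun _ => rfl) 5 x).trans ?_)
    rw [hY]; rfl)
  rw [hcard, Nat.ModEq] at hm
  by_contra h
  push Not at h
  have h1 : Nat.card {x // g x = x} ≤ 1 := Finite.card_le_one_iff_subsingleton.2 ⟨fun x y => by
    have e : ∀ z : {x // g x = x}, (z.1.1 : V) = 0 := fun z => by
      by_contra hz
      exact h _ hz z.1.2 (congrArg Subtype.val z.2)
    exact Subtype.ext (Subtype.ext ((e x).trans (e y).symm))⟩
  omega

end Cfsg.Agent.J4Type.Rep
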