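import Cfsg.Agent.J4Type.Rep.Recog

/-!
# The normal form of the representation
-/

set_option autoImplicit false

namespace Cfsg.Agent.J4Type.Rep

variable {V : Type*} [AddCommGroup V] {X Y F W : AddMonoid.End V}

theorem app_zero : ∀ M : List ℕ, app M 0 = 0
  | [] => rfl
  | a :: M => by rw [app_cons, Nat.zero_div, app_zero M, if_neg (by decide)]; rfl

theorem app_xor : ∀ (M : List ℕ) (r s : ℕ), app M (r ^^^ s) = app M r ^^^ app M s
  | [], _, _ => by simp [app_nil]
  | a :: M, r, s => by
    rw [app_cons, app_cons, app_cons, Nat.xor_div_two, app_xor M, Nat.xor_mod_two_eq]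
    rcases Nat.mod_two_eq_zero_or_one r with hr | hr <;>
      rcases Nat.mod_two_eq_zero_or_one s with hs | hs <;>
      rw [Nat.add_mod r s, hr, hs] <;>
      norm_num [Nat.xor_assoc, Nat.xor_left_comm a, Nat.xor_self]

theorem app_app (M : List ℕ) : ∀ (N : List ℕ) (r : ℕ), app (N.map (app M)) r = app M (app N r)
  | [], _ => (app_zero M).symm
  | a :: N, r => by
    rw [List.map_cons, app_cons, app_cons, app_xor, app_app M N]
    split <;> simp [app_zero]

theorem Sm_bij : ((List.range 12).all fun i => Nat.beq (app Sm (app Sm (app Sm (2 ^ i)))) (2 ^ i)) = true ∧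
    ∀ a ∈ Sm, a < 2 ^ 12 := by decide +kernel

theorem app_self_eq (h2 : ∀ v : V, v + v = 0) {B : List V} (hB : B.length = 12) {M : List ℕ}
    (h : ∀ i < 12, app M (2 ^ i) = 2 ^ i) (hM : M.length = 12) : M.map (lin B) = B := by
  refine List.ext_getElem (by simp [hB, hM]) fun i h₁ h₂ => ?_
  have hi : i < 12 := by omega
  rw [List.getElem_map, ← lin_two_pow B i h₂]
  have e1 := lin_app h2 B M (2 ^ i)
  rw [h i hi, lin_two_pow (M.map (lin B)) i (by simp [hM, hi]), List.getElem_map] at e1
  exact e1.symm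

/-- Changing the coordinates by a matrix commuting suitably with those of the maps. -/
theorem acts_change (h2 : ∀ v : V, v + v = 0) {B : List V} {T : AddMonoid.End V} {S M N : List ℕ}
    (hT : Acts B T M) (h : S.map (app M) = N.map (app S)) : Acts (S.map (lin B)) T N := by
  refine acts_of_map h2 ?_
  rw [List.map_map]
  have e1 : S.map (T ∘ lin B) = (S.map (app M)).map (lin B) := by
    rw [List.map_map]; exact List.map_congr_left fun r _ => hT r
  rw [e1, h, List.map_map]
  exact List.map_congr_left fun r _ => lin_app h2 B S r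

theorem Frame.scale [Finite V] (h2 : ∀ v : V, v + v = 0) (hV : Nat.card V = 4096) {B : List V}
    (P : Frame B X Y W) (hB : B.length = 12) : Frame (Sm.map (lin B)) X Y W := by
  refine ⟨(Nat.bijective_iff_surjective_and_card _).2 ⟨fun u => ?_, by rw [Nat.card_fin, hV]⟩,
    acts_change h2 P.x scale_comm.1, acts_change h2 P.y scale_comm.2.1,
    acts_change h2 P.w scale_comm.2.2⟩
  obtain ⟨r, -, rfl⟩ := P.code u
  refine ⟨⟨app Sm (app Sm r), app_lt Sm_bij.2 _⟩, ?_⟩
  change lin (Sm.map (lin B)) (app Sm (app Sm r)) = lin B r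
  rw [← lin_app h2, lin_app h2, lin_app h2, lin_app h2]
  congr 1
  have e : (Sm.map (app Sm)).map (app Sm) = (List.range 12).map (2 ^ ·) := by decide +kernel
  have e1 : ∀ (L : List ℕ), (L.map (app Sm)).map (lin B) = L.map (lin (Sm.map (lin B))) := fun L => by
    rw [List.map_map]; exact List.map_congr_left fun t _ => lin_app h2 B Sm t
  have e2 : ((List.range 12).map (2 ^ ·)).map (lin B) = B := by
    refine List.ext_getElem (by simp [hB]) fun i h₁ h₂ => ?_
    simp only [List.getElem_map, List.getElem_range]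
    exact lin_two_pow B i h₂
  conv_rhs => rw [← e2, ← e, e1]
  rw [List.map_map]
  exact List.map_congr_left fun t _ => (lin_app h2 (Sm.map (lin B)) Sm t).symm

/-- **Uniqueness of the representation.** -/
theorem exists_basis [Finite V] (h2 : ∀ v : V, v + v = 0) (hV : Nat.card V = 4096)
    (R : Rels X Y F W) : ∃ B : List V, ∃ W' : AddMonoid.End V, (W' = W ∨ W' = W * W) ∧
      B.length = 12 ∧ Frame B X Y W' ∧ Acts B F F0 := by
  obtain ⟨v, hv0, hv, hY⟩ := exists_fixed_kernel h2 hV R.x11 R.xne R.y5 R.xy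
  obtain ⟨W', hW', R', hWv⟩ : ∃ W', (W' = W ∨ W' = W * W) ∧ Rels X Y F W' ∧
      W' v = lin (BK X v) 570 := by
    rcases exists_omega h2 hV R hv0 hv hY with h | h
    · exact ⟨W, Or.inl rfl, R, h⟩
    · exact ⟨W * W, Or.inr rfl, R.square, h⟩
  obtain ⟨e, he, he0⟩ : ∃ e, X e = e ∧ e ≠ 0 := by
    by_contra h
    push Not at h
    have h4 := card_fixed_eq_four h2 hV R.x11 R.xne
    have : Nat.card {u : V // X u = u} ≤ 1 := Finite.card_le_one_iff_subsingleton.2
      ⟨fun x y => Subtype.ext ((h _ x.2).trans (h _ y.2).symm)⟩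
    omega
  have P := exists_frame h2 hV R' hv0 hv hY hWv he he0
  have hB : (BK X v ++ [e, W' e]).length = 12 := by simp [BK]
  have P1 := P.scale h2 hV hB
  have hB1 : (Sm.map (lin (BK X v ++ [e, W' e]))).length = 12 := by simp [Sm]
  rcases exists_survivor h2 P hB R' with h | h | h
  · exact ⟨_, W', hW', hB, P, h⟩
  · exact ⟨_, W', hW', hB1, P1, acts_change h2 h scale_one⟩
  · refine ⟨_, W', hW', by simp [Sm], P1.scale h2 hV hB1, ?_⟩
    have h' : Acts ((Sm.map (app Sm)).map (lin (BK X v ++ [e, W' e]))) F F0 := by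
      exact acts_change h2 h (scale_two.trans (List.map_congr_left fun r _ => (app_app Sm Sm r).symm))
    rw [List.map_map] at h'
    have : (Sm.map (lin (Sm.map (lin (BK X v ++ [e, W' e]))))) =
        Sm.map (lin (BK X v ++ [e, W' e]) ∘ app Sm) :=
      List.map_congr_left fun r _ => (lin_app h2 _ Sm r).symm
    rwa [this]

end Cfsg.Agent.J4Type.Rep
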