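import Cfsg.Agent.J4Type.Rep.Recog

/-!
# The invariant quadratic form
-/

set_option autoImplicit false
set_option Elab.async false
set_option maxRecDepth 100000

namespace Cfsg.Agent.J4Type.Rep

/-- The number of bits among the lowest `n`. -/
noncomputable def cnt (n r : ℕ) : ℕ :=
  Nat.rec (motive := fun _ => ℕ → ℕ) (fun _ => 0) (fun _ f s => s % 2 + f (s / 2)) n r

/-- The quadratic form: the parity of `k (k + 1) / 2`, `k` the weight, summed over the two blocks. -/
noncomputable def qv (r : ℕ) : ℕ :=
  ((cnt 10 r * (cnt 10 r + 1)) / 2 + (cnt 2 (r / 1024) * (cnt 2 (r / 1024) + 1)) / 2) % 2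

theorem qv_invariant : ((List.range 4096).all fun r => Nat.beq (qv (app Xm r)) (qv r) &&
    Nat.beq (qv (app Ym r)) (qv r) && Nat.beq (qv (app Wm r)) (qv r) &&
    Nat.beq (qv (app F0 r)) (qv r)) = true := by
  decide +kernel

/-- The data of a quadratic form on a basis: value, and polar values with the later vectors. -/
def qev : List (Bool × List Bool) → ℕ → Bool
  | [], _ => false
  | (a, L) :: D, r => ((if r % 2 = 1 then xor a (dot L (r / 2)) else false) != qev D (r / 2))
where
  /-- The sum of the entries selected by a code. -/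
  dot : List Bool → ℕ → Bool
    | [], _ => false
    | b :: L, r => ((if r % 2 = 1 then b else false) != dot L (r / 2))

variable {V : Type*} [AddCommGroup V]

/-- The polar form. -/
def pol (q : V → Bool) (a b : V) : Bool := (q (a + b) != (q a != q b))

/-- A quadratic form over two elements: its polar form is additive. -/
structure IsQuad (q : V → Bool) : Prop where
  zero : q 0 = false
  add : ∀ a b c, pol q a (b + c) = (pol q a b != pol q a c)

variable {q : V → Bool}

theorem IsQuad.pol_zero (hq : IsQuad q) (a : V) : pol q a 0 = false := by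
  simp [pol, hq.zero]

theorem pol_comm (q : V → Bool) (a b : V) : pol q a b = pol q b a := by
  rw [pol, pol, add_comm]
  cases q a <;> cases q b <;> rfl

theorem IsQuad.pol_lin (hq : IsQuad q) (a : V) : ∀ (B : List V) (r : ℕ),
    pol q a (lin B r) = qev.dot (B.map (pol q a)) r
  | [], r => hq.pol_zero a
  | b :: B, r => by
    rw [lin_cons, hq.add, hq.pol_lin a B, List.map_cons, qev.dot]
    split <;> simp [hq.pol_zero]

/-- The data of a form on a basis. -/
def qdata (q : V → Bool) : List V → List (Bool × List Bool)
  | [] => []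
  | b :: B => (q b, B.map (pol q b)) :: qdata q B

theorem IsQuad.q_lin (hq : IsQuad q) : ∀ (B : List V) (r : ℕ), q (lin B r) = qev (qdata q B) r
  | [], r => hq.zero
  | b :: B, r => by
    rw [lin_cons, qdata, qev, ← hq.pol_lin b B, ← hq.q_lin B]
    split
    · rw [pol]
      cases q b <;> cases q (lin B (r / 2)) <;> cases q (b + lin B (r / 2)) <;> rfl
    · simp

/-- The candidate data. -/
noncomputable def cand (u : ℕ) : List (Bool × List Bool) :=
  let b := fun k => Nat.testBit u k
  ((List.range 10).map fun i => (b 0, ((List.range (9 - i)).map fun t =>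
      b (min (t + 1) (11 - (t + 1)))) ++ [false, false])) ++ [(b 6, [b 8]), (b 7, [])]

/-- The tests: invariance on the basis and on the sums of two basis vectors. -/
def tests : List ℕ :=
  (List.range 12).map (2 ^ ·) ++
    (List.range 12).flatMap fun i => (List.range i).map fun j => 2 ^ i + 2 ^ j

/-- The test of a candidate. -/
noncomputable def okD (D : List (Bool × List Bool)) : Bool :=
  tests.all fun r => (qev D (app F0 r) == qev D r) && (qev D (app Wm r) == qev D r) &&
    (qev D (app Ym r) == qev D r)

theorem cand_ok : ((List.range 512).all fun u => !okD (cand u) || Nat.beq u 0 || Nat.beq u 511) = true := by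
  decide +kernel

theorem cand_zero : ((List.range 4096).all fun r => qev (cand 0) r == false) = true := by decide +kernel

theorem cand_top : ((List.range 4096).all fun r => qev (cand 511) r == Nat.beq (qv r) 1) = true := by
  decide +kernel

theorem shift_ok : ((List.range 10).all fun i => Nat.beq (it Xm i 1) (2 ^ i)) = true ∧
    ((List.range 10).all fun i => (List.range 10).all fun t =>
      !Nat.ble (i + t) 9 || Nat.beq (it Xm i (2 ^ t)) (2 ^ (i + t))) = true ∧
    ((List.range 10).all fun d => !Nat.ble 6 d || (Nat.beq (it Xm (11 - d) (2 ^ d)) 1)) = true ∧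
    ((List.range 10).all fun i => Nat.beq (it Xm i 1024) 1024 && Nat.beq (it Xm i 2048) 2048) = true ∧
    Nat.beq (it Xm 10 1) 1023 = true ∧ Nat.beq (it Xm 10 1024) 1024 = true ∧
    Nat.beq (it Xm 10 2048) 2048 = true := by
  decide +kernel


/-- **Uniqueness of the form.** -/
theorem qv_unique {X Y F W : AddMonoid.End V} {B : List V} (P : Frame B X Y W) (hF : Acts B F F0)
    (hB : B.length = 12) (hq : IsQuad q) (iX : ∀ v, q (X v) = q v) (iY : ∀ v, q (Y v) = q v)
    (iF : ∀ v, q (F v) = q v) (iW : ∀ v, q (W v) = q v) (hne : ∃ v, q v = true) (r : ℕ) (hr : r < 4096) :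
    q (lin B r) = Nat.beq (qv r) 1 := by
  have hp : ∀ (n : ℕ) (a b : ℕ), pol q (lin B (it Xm n a)) (lin B (it Xm n b)) = pol q (lin B a) (lin B b) := by
    intro n
    induction n with
    | zero => intro a b; rfl
    | succ n ih =>
      intro a b
      rw [it_succ, it_succ, ← P.x, ← P.x, ← ih a b]
      simp only [pol, ← map_add, iX]
  have hi : ∀ n a, q (lin B (it Xm n a)) = q (lin B a) := by
    intro n a
    induction n with
    | zero => rfl
    | succ n ih => rw [it_succ, ← P.x, iX, ih]
  obtain ⟨s1, s2, s3, s4, s5, s6, s7⟩ := shift_ok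
  simp only [List.all_eq_true, List.mem_range, Bool.or_eq_true, Bool.and_eq_true, Bool.not_eq_true',
    Nat.beq_eq] at s1 s2 s3 s4
  have s5 := beqE s5
  have s6 := beqE s6
  have s7 := beqE s7
  set β : ℕ → ℕ → Bool := fun a b => pol q (lin B a) (lin B b) with hβ
  let bits : Fin 9 → Bool := ![q (lin B 1), β 1 2, β 1 4, β 1 8, β 1 16, β 1 32, q (lin B 1024),
    q (lin B 2048), β 1024 2048]
  obtain ⟨u, hu, hub⟩ : ∃ u < 512, ∀ k : Fin 9, Nat.testBit u k.1 = bits k := by
    refine ⟨∑ k : Fin 9, if bits k then 2 ^ k.1 else 0, ?_, ?_⟩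
    · simp only [Fin.sum_univ_succ, Fin.sum_univ_zero]
      norm_num
      split_ifs <;> norm_num
    · generalize bits = f
      revert f
      decide +kernel
  have hplane : ∀ e, it Xm 10 e = e → (∀ i < 10, it Xm i e = e) → ∀ i < 10, β (2 ^ i) e = false := by
    intro e h10 he i hi
    have hshift : ∀ i < 10, β (2 ^ i) e = β 1 e := fun i hi => by
      have := hp i 1 e
      rw [s1 i hi, he i hi] at this
      exact this
    rw [hshift i hi]
    have e1 : β 1023 e = β 1 e := by
      have := hp 10 1 e
      rw [s5, h10] at this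
      exact this
    have e2 : β 1023 e = false := by
      simp only [hβ] at hshift ⊢
      rw [pol_comm, hq.pol_lin]
      have hlow : ∀ (L : List Bool), L.length = 12 → (∀ i < 10, L[i]? = some (β 1 e)) →
          qev.dot L 1023 = false := by
        intro L hL h
        match L, hL with
        | [a0, a1, a2, a3, a4, a5, a6, a7, a8, a9, a10, a11], _ =>
          have g : ∀ i (hi : i < 10) a, [a0, a1, a2, a3, a4, a5, a6, a7, a8, a9, a10, a11][i]? = some a →
              a = β 1 e := fun i hi a ha => Option.some.inj (ha.symm.trans (h i hi))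
          rw [g 0 (by norm_num) a0 rfl, g 1 (by norm_num) a1 rfl, g 2 (by norm_num) a2 rfl,
            g 3 (by norm_num) a3 rfl, g 4 (by norm_num) a4 rfl, g 5 (by norm_num) a5 rfl,
            g 6 (by norm_num) a6 rfl, g 7 (by norm_num) a7 rfl, g 8 (by norm_num) a8 rfl,
            g 9 (by norm_num) a9 rfl]
          cases β 1 e <;> rfl
      refine hlow _ (by simp [hB]) fun i hi => ?_
      rw [List.getElem?_map, List.getElem?_eq_getElem (by omega), Option.map_some, ← lin_two_pow B i,
        pol_comm]
      exact congrArg some (hshift i hi)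
    rw [← e1, e2]
  have hd : ∀ d, 1 ≤ d → d ≤ 9 → β 1 (2 ^ d) = Nat.testBit u (min d (11 - d)) := by
    intro d h1 h9
    rcases le_or_gt d 5 with h5 | h5
    · rw [min_eq_left (by omega)]
      interval_cases d
      · exact (hub 1).symm
      · exact (hub 2).symm
      · exact (hub 3).symm
      · exact (hub 4).symm
      · exact (hub 5).symm
    · rw [min_eq_right (by omega)]
      have h := hp (11 - d) 1 (2 ^ d)
      rw [(s3 d (by omega)).resolve_left (fun h => by
        rw [← Bool.not_eq_true, Nat.ble_eq] at h; omega), s1 (11 - d) (by omega), pol_comm] at h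
      change β 1 (2 ^ (11 - d)) = β 1 (2 ^ d) at h
      rw [← h]
      interval_cases d
      · exact (hub 5).symm
      · exact (hub 4).symm
      · exact (hub 3).symm
      · exact (hub 2).symm
  have hD : qdata q B = cand u := by
      have hB' : B = ((List.range 12).map fun i => lin B (2 ^ i)) := by
        refine List.ext_getElem (by simp [hB]) fun i h₁ h₂ => ?_
        simp only [List.getElem_map, List.getElem_range]
        exact (lin_two_pow B i h₁).symm
      have c0 : ∀ i (h : i < 10), q (lin B (2 ^ i)) = Nat.testBit u 0 := fun i h => by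
        have := hi i 1
        rw [s1 i h] at this
        exact this.trans (hub 0).symm
      have c1 : ∀ i j, i < j → j < 10 →
          pol q (lin B (2 ^ i)) (lin B (2 ^ j)) = Nat.testBit u (min (j - i) (11 - (j - i))) := by
        intro i j hij hj
        have := hp i 1 (2 ^ (j - i))
        rw [s1 i (by omega), (s2 i (by omega) (j - i) (by omega)).resolve_left (fun h => by
          rw [← Bool.not_eq_true, Nat.ble_eq] at h; omega), Nat.add_sub_cancel' hij.le] at this
        exact this.trans (hd _ (by omega) (by omega))
      have ce : ∀ i < 10, pol q (lin B (2 ^ i)) (lin B 1024) = false :=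
        hplane 1024 s6 fun i hi => (s4 i hi).1
      have ce' : ∀ i < 10, pol q (lin B (2 ^ i)) (lin B 2048) = false :=
        hplane 2048 s7 fun i hi => (s4 i hi).2
      have q10 : q (lin B 1024) = Nat.testBit u 6 := (hub 6).symm
      have q11 : q (lin B 2048) = Nat.testBit u 7 := (hub 7).symm
      have p1011 : pol q (lin B 1024) (lin B 2048) = Nat.testBit u 8 := (hub 8).symm
      conv_lhs => rw [hB']
      simp only [cand, qdata, List.map_cons, List.map_nil, List.range_succ, List.range_zero,
        List.nil_append, List.cons_append, List.map_append, Nat.sub_zero, Nat.reduceSub, Nat.reduceAdd]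
      simp only [show (2 : ℕ) ^ 10 = 1024 from rfl, show (2 : ℕ) ^ 11 = 2048 from rfl]
      simp (discharger := omega) only [c0, c1, ce, ce', q10, q11, p1011]
  have hok : okD (cand u) = true := by
    refine List.all_eq_true.2 fun s _ => ?_
    simp only [Bool.and_eq_true, beq_iff_eq, ← hD, ← hq.q_lin]
    exact ⟨⟨by rw [← hF, iF], by rw [← P.w, iW]⟩, by rw [← P.y, iY]⟩
  have hcase := List.all_eq_true.1 cand_ok u (List.mem_range.2 hu)
  rw [hok] at hcase
  simp only [Bool.not_true, Bool.false_or, Bool.or_eq_true, Nat.beq_eq] at hcase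
  rw [hq.q_lin, hD]
  rcases hcase with rfl | rfl
  · exfalso
    obtain ⟨v, hv⟩ := hne
    obtain ⟨s, hs, rfl⟩ := P.code v
    rw [hq.q_lin, hD, beq_iff_eq.1 (List.all_eq_true.1 cand_zero s (List.mem_range.2 hs))] at hv
    exact Bool.false_ne_true hv
  · exact beq_iff_eq.1 (List.all_eq_true.1 cand_top r (List.mem_range.2 hr))

end Cfsg.Agent.J4Type.Rep
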