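import Cfsg.Agent.J4Type.Rep.Main

/-!
# The semilinear element inverting the scalar
-/

set_option autoImplicit false
set_option Elab.async false
set_option maxRecDepth 100000

namespace Cfsg.Agent.J4Type.Rep

/-- The semilinear element: it inverts `Xm` and `Wm` and commutes with `Ym` and `F0`. -/
def Sg : List ℕ := [1, 1023, 512, 256, 128, 64, 32, 16, 8, 4, 1024, 3072]

/-- The semilinear map with the given images of the two spanning vectors. -/
noncomputable def mkS (a e : ℕ) : List ℕ :=
  ((List.range 10).map fun i => it Xm (10 * i) a) ++ [e, app Wm (app Wm e)]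

/-- Whether two maps agree on the basis. -/
noncomputable def sameOn (f g : ℕ → ℕ) : Bool :=
  (List.range 12).all fun i => Nat.beq (f (2 ^ i)) (g (2 ^ i))

/-- The test of a candidate. -/
noncomputable def okS (S : List ℕ) : Bool :=
  sameOn (fun r => app S (app F0 r)) (fun r => app F0 (app S r)) &&
    sameOn (fun r => app S (app Wm r)) (fun r => app Wm (app Wm (app S r))) &&
    sameOn (fun r => app S (app Xm r)) (fun r => it Xm 10 (app S r))

/-- The Y-fixed codes. -/
noncomputable def LS : List ℕ := (List.range 4096).filter (fun r => Nat.beq (app Ym r) r)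

theorem searchS : (LS.all fun a => LS.all fun e => !okS (mkS a e) || (Nat.beq a 0 && Nat.beq e 0) ||
    (decide (mkS a e = Sg) || decide (mkS a e = Sg.map (app Wm)) ||
      decide (mkS a e = (Sg.map (app Wm)).map (app Wm)))) = true := by
  decide +kernel

theorem mkS_zero : mkS 0 0 = List.replicate 12 0 := by decide +kernel

theorem Sg_spec : sameOn (fun r => app Sg (app Sg r)) id = true ∧
    sameOn (fun r => app Sg (app F0 r)) (fun r => app F0 (app Sg r)) = true ∧
    sameOn (fun r => app Sg (app Ym r)) (fun r => app Ym (app Sg r)) = true ∧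
    sameOn (fun r => app Sg (app Wm r)) (fun r => app Wm (app Wm (app Sg r))) = true ∧
    sameOn (fun r => app Sg (app Xm r)) (fun r => it Xm 10 (app Sg r)) = true := by
  decide +kernel

theorem basis_it : ((List.range 10).all fun i => Nat.beq (it Xm i 1) (2 ^ i)) = true ∧
    app Wm 1024 = 2048 := by decide +kernel

variable {V : Type*} [AddCommGroup V] {X Y F W : AddMonoid.End V}

theorem apply_mul_eq {S T U R : AddMonoid.End V} (h : S * T = U * R) (v : V) : S (T v) = U (R v) :=
  congrArg (fun Z : AddMonoid.End V => Z v) h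

/-- **Uniqueness of the semilinear element.** -/
theorem outer_unique {B : List V} (h2 : ∀ v : V, v + v = 0) (P : Frame B X Y W) (hF : Acts B F F0)
    (hB : B.length = 12) {T : AddMonoid.End V} (hT : Function.Injective T)
    (tX : T * X = X ^ 10 * T) (tY : T * Y = Y * T) (tF : T * F = F * T) (tW : T * W = W * W * T) :
    Acts B T Sg ∨ Acts B (W * W * T) Sg ∨ Acts B (W * T) Sg := by
  obtain ⟨a, ha, ea⟩ := P.code (T (lin B 1))
  obtain ⟨e, he, ee⟩ := P.code (T (lin B 1024))
  have tXi : ∀ i u, T ((X ^ i) u) = (X ^ (10 * i)) (T u) := by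
    intro i
    induction i with
    | zero => intro u; rfl
    | succ i ih =>
      intro u
      rw [pow_succ_apply, apply_mul_eq tX, ih, ← mul_apply', ← pow_add, Nat.mul_succ, add_comm]
  have hlt : ∀ i r, r < 4096 → it Xm i r < 4096 := by
    intro i
    induction i with
    | zero => exact fun r hr => hr
    | succ i _ => exact fun r _ => app_lt Xm_lt _
  have hM : Acts B T (mkS a e) := by
    refine acts_of_map h2 (List.ext_getElem (by simp [hB, mkS]) fun i h₁ h₂ => ?_)
    have hi : i < 12 := by simpa [hB] using h₁
    simp only [List.getElem_map]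
    rw [← lin_two_pow B i (by omega)]
    rcases lt_or_ge i 10 with h | h
    · have h1 := beqE (List.all_eq_true.1 basis_it.1 i (List.mem_range.2 h))
      have : (mkS a e)[i]'(by simpa using h₂) = it Xm (10 * i) a := by
        simp only [mkS]
        rw [List.getElem_append_left (by simp [h]), List.getElem_map, List.getElem_range]
      rw [this, ← P.x.it, ← h1, ← P.x.it, tXi, ea]
    · interval_cases i
      · exact ee
      · change T (lin B 2048) = lin B (app Wm (app Wm e))
        rw [← basis_it.2, ← P.w, apply_mul_eq tW, ee, mul_apply', P.w, P.w]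
  have hfix : ∀ s r, r < 4096 → app Ym s = s → T (lin B s) = lin B r → r ∈ LS := by
    intro s r hr hs h
    refine List.mem_filter.2 ⟨List.mem_range.2 hr, beqI ?_⟩
    refine P.eq_code (app_lt Ym_lt _) hr ?_
    rw [← P.y, ← h, ← apply_mul_eq tY, P.y, hs]
  have ha' := hfix 1 a ha (by decide +kernel) ea
  have he' := hfix 1024 e he (by decide +kernel) ee
  have hMlt : ∀ r ∈ mkS a e, r < 2 ^ 12 := by
    intro r hr
    rcases List.mem_append.1 hr with h | h
    · obtain ⟨i, -, rfl⟩ := List.mem_map.1 h
      exact hlt _ _ ha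
    · simp only [List.mem_cons, List.not_mem_nil, or_false] at h
      rcases h with rfl | rfl
      · exact he
      · exact app_lt Wm_lt _
  have hS : okS (mkS a e) = true := by
    simp only [okS, sameOn, Bool.and_eq_true, List.all_eq_true, Nat.beq_eq, List.mem_range]
    refine ⟨⟨fun i _ => P.eq_code (app_lt hMlt _) ?_ ?_, fun i _ => P.eq_code (app_lt hMlt _) ?_ ?_⟩,
      fun i _ => P.eq_code (app_lt hMlt _) ?_ ?_⟩
    · exact app_lt (n := 12) (by decide +kernel) _
    · rw [← hM, ← hF, ← hF, ← hM, apply_mul_eq tF]
    · exact app_lt Wm_lt _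
    · rw [← hM, ← P.w, ← P.w, ← P.w, ← hM, apply_mul_eq tW, mul_apply']
    · exact hlt _ _ (app_lt hMlt _)
    · rw [← hM, ← P.x, ← P.x.it, ← hM, apply_mul_eq tX]
  have hne : ¬(a = 0 ∧ e = 0) := by
    rintro ⟨rfl, -⟩
    have : lin B 1 = 0 := hT (by rw [ea, lin_zero, map_zero])
    exact absurd (P.eq_code (by norm_num) (by norm_num) (this.trans (lin_zero B).symm)) one_ne_zero
  have h := List.all_eq_true.1 (List.all_eq_true.1 searchS a ha') e he'
  simp only [hS, Bool.not_true, Bool.false_or, Bool.or_eq_true, Bool.and_eq_true, Nat.beq_eq,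
    decide_eq_true_eq] at h
  have w3 : ∀ r, W (W (W (lin B r))) = lin B r := by
    intro r
    have hw : app Wm (app Wm (app Wm r)) = app (List.map (app Wm) (Wm.map (app Wm))) r := by
      rw [app_app, app_app]
    rw [P.w, P.w, P.w, hw, lin_app h2 B]
    have hid : List.map (app Wm) (Wm.map (app Wm)) = (List.range 12).map (2 ^ ·) := by decide +kernel
    rw [hid]
    congr 1
    refine List.ext_getElem (by simp [hB]) fun i h₁ h₂ => ?_
    simp only [List.getElem_map, List.getElem_range]
    exact lin_two_pow B i h₂
  rcases h with h | (h | h) | h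
  · exact absurd h hne
  · exact Or.inl (h ▸ hM)
  · refine Or.inr (Or.inl fun r => ?_)
    have e := hM r
    rw [h, app_app, ← P.w] at e
    rw [mul_apply', mul_apply', e, w3]
  · refine Or.inr (Or.inr fun r => ?_)
    have e := hM r
    rw [h, app_app, app_app, ← P.w, ← P.w] at e
    rw [mul_apply', e, w3]

end Cfsg.Agent.J4Type.Rep
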