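import Cfsg.Agent.J4Type.Rep.M22Gen
import Cfsg.Agent.Compute.M22Outer
import Cfsg.Agent.S2062

/-!
# The outer automorphism of M22 inverting the generator of order eleven
-/

set_option autoImplicit false
set_option maxRecDepth 100000

namespace Cfsg.Agent.J4Type.Rep

open Cfsg Cfsg.Agent.Compute

/-- An involution of M24 interchanging the two fixed points. -/
def gs : ℕ := 0x38af41cc3a596468833946ac82937

theorem gs_ok : inM24B gs = true ∧ Nat.beq (rep24.act gs 23) 0 = true ∧
    Nat.beq (rep24.act gs 0) 23 = true ∧ Nat.beq (rep24.mul gs gs) rep24.one = true ∧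
    Nat.beq (rep24.mul gs gx) (rep24.mul (gpow gx 10) gs) = true ∧
    Nat.beq (rep24.mul gs gy) (rep24.mul gy gs) = true ∧
    Nat.beq (rep24.mul gs gf) (rep24.mul gf gs) = true := by decide +kernel

theorem exists_outer : ∃ α : MulAut ↥Spor.M22, α ∉ (MulAut.conj : ↥Spor.M22 →* MulAut ↥Spor.M22).range ∧
    α mx = mx ^ 10 ∧ α my = my ∧ α mf = mf := by
  obtain ⟨hm, h1, h2, h3, h4, h5, h6⟩ := gs_ok
  obtain ⟨hok, hM⟩ := mem_M24_of_check hm
  set S := rep24.den gs
  have hnone : S none = some 0 := by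
    have e := rep24.act_spec gs 23 hok (show 23 < rep24.n from (by decide : 23 < 24))
    rw [rep24_pt23] at e
    have h1' : rep24.act gs 23 = 0 := by rwa [Nat.beq_eq] at h1
    rw [h1', rep24_pt0] at e
    exact e
  have hzero : S (some 0) = none := by
    have e := rep24.act_spec gs 0 hok (show 0 < rep24.n from (by decide : 0 < 24))
    rw [rep24_pt0] at e
    have h2' : rep24.act gs 0 = 23 := by rwa [Nat.beq_eq] at h2
    rw [h2', rep24_pt23] at e
    exact e
  have hinv : S * S = 1 := by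
    rw [Nat.beq_eq] at h3
    rw [← rep24.den_mul _ _ hok hok, h3, rep24.den_one]
  have hSi : S⁻¹ = S := inv_eq_of_mul_eq_one_right hinv
  have hconj : ∀ g ∈ Spor.M22, S * g * S⁻¹ ∈ Spor.M22 := by
    rintro g ⟨⟨hg, hg23⟩, hg0⟩
    refine ⟨⟨M24.mul_mem (M24.mul_mem hM hg) (M24.inv_mem hM), MulAction.mem_stabilizer_iff.2 ?_⟩,
      MulAction.mem_stabilizer_iff.2 ?_⟩
    · change S (g (S⁻¹ none)) = none
      rw [hSi, hnone, show g (some 0) = some 0 from MulAction.mem_stabilizer_iff.1 hg0, hzero]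
    · change S (g (S⁻¹ (some 0))) = some 0
      rw [hSi, hzero, show g none = none from MulAction.mem_stabilizer_iff.1 hg23, hnone]
  let α : MulAut ↥Spor.M22 :=
    { toFun := fun g => ⟨S * g * S⁻¹, hconj g g.2⟩
      invFun := fun g => ⟨S * g * S⁻¹, hconj g g.2⟩
      left_inv := fun g => Subtype.ext (by
        change S * (S * (g : Equiv.Perm GolayPt) * S⁻¹) * S⁻¹ = g
        rw [hSi, show S * (S * (g : Equiv.Perm GolayPt) * S) * S = (S * S) * g * (S * S) by group, hinv,
          one_mul, mul_one])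
      right_inv := fun g => Subtype.ext (by
        change S * (S * (g : Equiv.Perm GolayPt) * S⁻¹) * S⁻¹ = g
        rw [hSi, show S * (S * (g : Equiv.Perm GolayPt) * S) * S = (S * S) * g * (S * S) by group, hinv,
          one_mul, mul_one])
      map_mul' := fun g g' => Subtype.ext (by simp [mul_assoc]) }
  have ox := (mem_m22 gx gens_mem.1).1
  have oy := (mem_m22 gy gens_mem.2.1).1
  have of' := (mem_m22 gf gens_mem.2.2).1
  rw [Nat.beq_eq] at h4 h5 h6
  refine ⟨α, ?_, Subtype.ext ?_, Subtype.ext ?_, Subtype.ext ?_⟩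
  · rintro ⟨h, hh⟩
    refine m22_conj_not_inner hM hnone hzero ⟨h, h.2, fun g hg => ?_⟩
    exact (congrArg (fun f : MulAut ↥Spor.M22 => ((f ⟨g, hg⟩ : ↥Spor.M22) : Equiv.Perm GolayPt)) hh).symm
  · have := congrArg rep24.den h4
    rw [rep24.den_mul _ _ hok ox, rep24.den_mul _ _ (gpow_spec ox 10).1 hok, (gpow_spec ox 10).2] at this
    change S * rep24.den gx * S⁻¹ = rep24.den gx ^ 10
    rw [this, mul_inv_cancel_right]
  · have := congrArg rep24.den h5
    rw [rep24.den_mul _ _ hok oy, rep24.den_mul _ _ oy hok] at this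
    change S * rep24.den gy * S⁻¹ = rep24.den gy
    rw [this, mul_inv_cancel_right]
  · have := congrArg rep24.den h6
    rw [rep24.den_mul _ _ hok of', rep24.den_mul _ _ of' hok] at this
    change S * rep24.den gf * S⁻¹ = rep24.den gf
    rw [this, mul_inv_cancel_right]

/-- An automorphism outside the inner ones differs from this one by an inner one. -/
theorem outer_coset {α β : MulAut ↥Spor.M22}
    (hα : α ∉ (MulAut.conj : ↥Spor.M22 →* MulAut ↥Spor.M22).range)
    (hβ : β ∉ (MulAut.conj : ↥Spor.M22 →* MulAut ↥Spor.M22).range) :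
    ∃ c, β = MulAut.conj c * α := by
  have h2 : (Inn ↥Spor.M22).index = 2 := by rw [Subgroup.index_eq_card]; exact S2062.result
  have hm : β * α⁻¹ ∈ Inn ↥Spor.M22 := by
    rw [Subgroup.mul_mem_iff_of_index_two h2]
    exact iff_of_false hβ (fun h => hα (inv_mem_iff.1 h))
  obtain ⟨c, hc⟩ := hm
  exact ⟨c, by rw [hc, inv_mul_cancel_right]⟩

end Cfsg.Agent.J4Type.Rep
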