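import Cfsg.Agent.J4Type.Rep.Data

/-!
# Kernel checks for the module of the triple cover of M22
-/

set_option autoImplicit false
set_option Elab.async false
set_option maxRecDepth 100000

namespace Cfsg.Agent.J4Type.Rep

theorem inv10_ok : ((List.range 1024).all fun r =>
    Nat.beq r 0 || (Nat.ble (inv10 r + 1) 1024 && Nat.beq (app (iterX r) (inv10 r)) 1)) = true := by
  decide +kernel

theorem xFix_ok : ((List.range 1024).all fun r =>
    Nat.beq r 0 || !(Nat.beq (app Xk r) r)) = true := by
  decide +kernel

theorem omega_ok : ((List.range 1024).all fun r =>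
    !(Nat.beq (app Yk r) r && Nat.beq (Nat.xor (Nat.xor (app (iterX r) r) r) 1) 0) ||
      (Nat.beq r 570 || Nat.beq r 571)) = true := by
  decide +kernel

theorem Yk_eq : Yk = (List.range 10).map (fun i => it Xk (4 * i) 1) := by decide +kernel

theorem Wk_eq : iterX 570 = Wm.take 10 := by decide +kernel

theorem coef_ok : coef.map (app src) = (List.range 12).map (2 ^ ·) := by decide +kernel

theorem qa_ok : Nat.beq (Nat.xor (Nat.xor (app Ym (app Ym 7)) (app Wm (app Ym 7))) 7) 0 = true := by
  decide +kernel

theorem qb_ok :
    Nat.beq (Nat.xor (Nat.xor (app Ym (app Ym 21)) (app Wm (app Wm (app Ym 21)))) 21) 0 = true := by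
  decide +kernel

theorem L0_coord : (L0.all fun s => Nat.ble (app coef s + 1) 16) = true := by decide +kernel

theorem search_ok : searchB = true := by decide +kernel

theorem scale_one : Sm.map (app F1) = F0.map (app Sm) := by decide +kernel

theorem scale_two : (Sm.map (app Sm)).map (app F2) = F0.map (fun r => app Sm (app Sm r)) := by
  decide +kernel

theorem scale_comm : Sm.map (app Xm) = Xm.map (app Sm) ∧ Sm.map (app Ym) = Ym.map (app Sm) ∧
    Sm.map (app Wm) = Wm.map (app Sm) := by decide +kernel

end Cfsg.Agent.J4Type.Rep
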