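import Mathlib

/-!
# Linear maps of a twelve-dimensional space over two elements, on codes

A vector is a natural number below `2 ^ 12`; a map is the list of the images of the basis.
-/

set_option autoImplicit false

namespace Cfsg.Agent.J4Type.Rep

/-- The image of a code under the map with the listed images of the basis. -/
noncomputable def app (M : List ℕ) : ℕ → ℕ :=
  List.rec (motive := fun _ => ℕ → ℕ) (fun _ => 0)
    (fun a _ r v => Nat.xor (cond (Nat.beq (v % 2) 1) a 0) (r (v / 2))) M

theorem app_nil (v : ℕ) : app [] v = 0 := rfl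

theorem app_cons (a : ℕ) (M : List ℕ) (v : ℕ) :
    app (a :: M) v = (if v % 2 = 1 then a else 0) ^^^ app M (v / 2) := by
  change Nat.xor (cond (Nat.beq (v % 2) 1) a 0) (app M (v / 2)) = _
  rcases Nat.mod_two_eq_zero_or_one v with h | h <;> rw [h] <;> rfl

/-- The iterates of a map. -/
noncomputable def it (M : List ℕ) (n r : ℕ) : ℕ :=
  Nat.rec (motive := fun _ => ℕ) r (fun _ s => app M s) n

theorem it_zero (M : List ℕ) (r : ℕ) : it M 0 r = r := rfl

theorem it_succ (M : List ℕ) (n r : ℕ) : it M (n + 1) r = app M (it M n r) := rfl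

variable {V : Type*} [AddCommGroup V]

/-- The combination of a list of vectors selected by the bits of a code. -/
def lin : List V → ℕ → V
  | [], _ => 0
  | b :: B, v => (if v % 2 = 1 then b else 0) + lin B (v / 2)

theorem lin_nil (v : ℕ) : lin ([] : List V) v = 0 := rfl

theorem lin_cons (b : V) (B : List V) (v : ℕ) :
    lin (b :: B) v = (if v % 2 = 1 then b else 0) + lin B (v / 2) := rfl

theorem lin_zero : ∀ B : List V, lin B 0 = 0
  | [] => rfl
  | b :: B => by rw [lin_cons, Nat.zero_div, lin_zero B, if_neg (by decide), add_zero]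

theorem lin_xor (h2 : ∀ v : V, v + v = 0) : ∀ (B : List V) (a c : ℕ),
    lin B (a ^^^ c) = lin B a + lin B c
  | [], _, _ => (add_zero 0).symm
  | b :: B, a, c => by
    rw [lin_cons, lin_cons, lin_cons, Nat.xor_div_two, lin_xor h2 B, Nat.xor_mod_two_eq]
    rcases Nat.mod_two_eq_zero_or_one a with ha | ha <;>
      rcases Nat.mod_two_eq_zero_or_one c with hc | hc <;>
      rw [Nat.add_mod a c, ha, hc] <;> norm_num <;>
      first
        | (rw [add_add_add_comm, h2, zero_add])
        | abel

theorem lin_app (h2 : ∀ v : V, v + v = 0) (B : List V) : ∀ (M : List ℕ) (v : ℕ),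
    lin B (app M v) = lin (M.map (lin B)) v
  | [], _ => lin_zero B
  | a :: M, v => by
    rw [app_cons, lin_xor h2, lin_app h2 B M, List.map_cons, lin_cons]
    split <;> simp [lin_zero]

theorem map_lin {W : Type*} [AddCommGroup W] (f : V →+ W) : ∀ (B : List V) (v : ℕ),
    f (lin B v) = lin (B.map f) v
  | [], _ => map_zero f
  | b :: B, v => by
    rw [lin_cons, map_add, map_lin f B, List.map_cons, lin_cons]
    split <;> simp

theorem lin_append : ∀ (B C : List V) (v : ℕ),
    lin (B ++ C) v = lin B v + lin C (v / 2 ^ B.length)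
  | [], C, v => by simp [lin_nil]
  | b :: B, C, v => by
    rw [List.cons_append, lin_cons, lin_cons, lin_append B C, add_assoc, List.length_cons, pow_succ',
      Nat.div_div_eq_div_mul]

theorem lin_two_pow : ∀ (B : List V) (i : ℕ) (h : i < B.length), lin B (2 ^ i) = B[i]
  | b :: B, 0, _ => by simp [lin_cons, lin_zero]
  | b :: B, i + 1, h => by
    rw [lin_cons, pow_succ, Nat.mul_div_cancel _ Nat.two_pos, lin_two_pow B i,
      if_neg (by simp), zero_add, List.getElem_cons_succ]

theorem app_lt : ∀ {M : List ℕ} {n : ℕ}, (∀ a ∈ M, a < 2 ^ n) → ∀ v, app M v < 2 ^ n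
  | [], n, _, _ => Nat.two_pow_pos n
  | a :: M, n, h, v => by
    rw [app_cons]
    refine Nat.xor_lt_two_pow ?_ (app_lt (fun b hb => h b (List.mem_cons_of_mem a hb)) _)
    split
    · exact h a List.mem_cons_self
    · exact Nat.two_pow_pos n

/-- The endomorphism `T` acts on the combinations of `B` as the map with code `M`. -/
def Acts (B : List V) (T : AddMonoid.End V) (M : List ℕ) : Prop :=
  ∀ r, T (lin B r) = lin B (app M r)

theorem acts_of_map (h2 : ∀ v : V, v + v = 0) {B : List V} {T : AddMonoid.End V} {M : List ℕ}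
    (h : B.map T = M.map (lin B)) : Acts B T M := fun r =>
  (map_lin (T : V →+ V) B r).trans ((congrArg (fun L => lin L r) h).trans (lin_app h2 B M r).symm)

theorem Acts.it {B : List V} {T : AddMonoid.End V} {M : List ℕ} (h : Acts B T M) :
    ∀ n r, (T ^ n) (lin B r) = lin B (it M n r)
  | 0, r => rfl
  | n + 1, r => by
    rw [pow_succ', AddMonoid.End.coe_mul, Function.comp_apply, Acts.it h n, h, it_succ]

end Cfsg.Agent.J4Type.Rep
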