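import Cfsg.Agent.J4Type.Rep.Code

/-!
# The six-dimensional module over four elements of the triple cover of M22: matrices and checks

The space is the sum of the field of `2 ^ 10` elements, on the powers of an eleventh root of
unity, and a plane fixed by the element of order eleven.
-/

set_option autoImplicit false

namespace Cfsg.Agent.J4Type.Rep

/-- The companion map of the element of order eleven. -/
def Xk : List ℕ := [2, 4, 8, 16, 32, 64, 128, 256, 512, 1023]

/-- The iterates of a code under `Xk`. -/
noncomputable def iterX (r : ℕ) : List ℕ := (List.range 10).map (fun i => it Xk i r)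

/-- The map of order five on the large summand. -/
def Yk : List ℕ := [1, 16, 256, 2, 32, 512, 4, 64, 1023, 8]

/-- The element of order eleven. -/
def Xm : List ℕ := [2, 4, 8, 16, 32, 64, 128, 256, 512, 1023, 1024, 2048]

/-- The element of order five. -/
def Ym : List ℕ := [1, 16, 256, 2, 32, 512, 4, 64, 1023, 8, 1024, 2048]

/-- The scalar of order three. -/
def Wm : List ℕ := [570, 907, 233, 466, 932, 183, 366, 732, 583, 881, 2048, 3072]

/-- The three possible elements of order four. -/
def F0 : List ℕ := [1024, 2342, 3214, 2754, 2903, 2140, 4000, 3410, 4043, 2287, 1, 570]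

/-- The second of them. -/
def F1 : List ℕ := [2048, 3366, 1166, 3778, 3927, 3164, 1952, 1362, 1995, 3311, 571, 1]

/-- The third of them. -/
def F2 : List ℕ := [3072, 1318, 2190, 1730, 1879, 1116, 2976, 2386, 3019, 1263, 570, 571]

/-- The scaling of the plane. -/
def Sm : List ℕ := [1, 2, 4, 8, 16, 32, 64, 128, 256, 512, 2048, 3072]

/-- The coordinates with respect to the spanning vectors of the eigenspaces of `Ym`. -/
def coef : List ℕ := [1, 3042, 3059, 3202, 2802, 3762, 3299, 899, 2739, 802, 4, 8]

/-- The spanning vectors of the eigenspaces of `Ym`. -/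
noncomputable def src : List ℕ :=
  [1, app Wm 1, 1024, app Wm 1024, 7, app Wm 7, app Ym 7, app Ym (app Wm 7),
    21, app Wm 21, app Ym 21, app Ym (app Wm 21)]

/-- The quadratic in the square of `Ym` annihilating the image of the first eigenvector. -/
noncomputable def qa (r : ℕ) : ℕ :=
  Nat.xor (Nat.xor (app Ym (app Ym (app Ym (app Ym r)))) (app Wm (app Ym (app Ym r)))) r

/-- The quadratic in the square of `Ym` annihilating the image of the second eigenvector. -/
noncomputable def qb (r : ℕ) : ℕ :=
  Nat.xor (Nat.xor (app Ym (app Ym (app Ym (app Ym r)))) (app Wm (app Wm (app Ym (app Ym r))))) r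

/-- The images of the first four spanning vectors. -/
noncomputable def img4 (a b : ℕ) : List ℕ := [a, app Wm a, b, app Wm b]

/-- The images of all the spanning vectors. -/
noncomputable def img (a b c d : ℕ) : List ℕ :=
  [a, app Wm a, b, app Wm b, c, app Wm c, app Ym (app Ym c), app Ym (app Ym (app Wm c)),
    d, app Wm d, app Ym (app Ym d), app Ym (app Ym (app Wm d))]

/-- The element of order four with the given images. -/
noncomputable def mkF (a b c d : ℕ) : List ℕ := coef.map (fun t => app (img a b c d) t)

/-- Its restriction to the fixed space of `Ym`. -/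
noncomputable def fx (a b s : ℕ) : ℕ := app (img4 a b) (app coef s)

/-- The test on the fixed space of `Ym`. -/
noncomputable def pairCond (a b : ℕ) : Bool :=
  Nat.beq (fx a b (fx a b (fx a b (fx a b 1)))) 1 &&
    Nat.beq (fx a b (fx a b (fx a b (fx a b 1024)))) 1024

/-- The fourth power fixes the basis. -/
noncomputable def ordFour (F : List ℕ) : Bool :=
  (List.range 12).all (fun i => Nat.beq (app F (app F (app F (app F (2 ^ i))))) (2 ^ i))

/-- The product of the three generators. -/
noncomputable def prodXYF (F : List ℕ) (r : ℕ) : ℕ := app Xm (app Ym (app F r))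

/-- Its fifth power. -/
noncomputable def five (F : List ℕ) (r : ℕ) : ℕ :=
  prodXYF F (prodXYF F (prodXYF F (prodXYF F (prodXYF F r))))

/-- The fifth power is a scalar. -/
noncomputable def relScal (F : List ℕ) : Bool :=
  (List.range 12).all (fun i => Nat.beq (five F (2 ^ i)) (2 ^ i)) ||
  (List.range 12).all (fun i => Nat.beq (five F (2 ^ i)) (app Wm (2 ^ i))) ||
  (List.range 12).all (fun i => Nat.beq (five F (2 ^ i)) (app Wm (app Wm (2 ^ i))))

/-- Equality of lists of codes. -/
def eqL (a b : List ℕ) : Bool := decide (a = b)

/-- The fixed space of `Ym`. -/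
noncomputable def L0 : List ℕ :=
  (List.range 4096).filter (fun r => Nat.beq (app Ym (app Ym r)) r)

/-- The possible images of the first eigenvector. -/
noncomputable def La : List ℕ := (List.range 4096).filter (fun r => Nat.beq (qa r) 0)

/-- The possible images of the second eigenvector. -/
noncomputable def Lb : List ℕ := (List.range 4096).filter (fun r => Nat.beq (qb r) 0)

/-- The exhaustive search. -/
noncomputable def searchB : Bool :=
  L0.all fun a => L0.all fun b => !pairCond a b || La.all fun c => Lb.all fun d =>
    !(ordFour (mkF a b c d) && relScal (mkF a b c d)) ||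
      (eqL (mkF a b c d) F0 || eqL (mkF a b c d) F1 || eqL (mkF a b c d) F2)

/-- The inverse in the large summand. -/
noncomputable def inv10 (r : ℕ) : ℕ :=
  (Nat.rec (motive := fun _ => ℕ × ℕ) (app (iterX r) r, 1)
    (fun _ p => (app (iterX p.1) p.1, app (iterX p.1) p.2)) 9).2

end Cfsg.Agent.J4Type.Rep
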