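import Cfsg.Agent.J4Type.Rep.Cover
import Cfsg.Agent.J4Type.Rep.Form
import Cfsg.Agent.J4Type.Rep.Outer
import Cfsg.Agent.J4Type.Rep.M22Out

/-!
# The image of the normaliser in explicit coordinates
-/

set_option autoImplicit false

open Cfsg Subgroup
open scoped commutatorElement

namespace Cfsg.Agent.J4Type.Rep

variable {V : Type*} [AddCommGroup V]

/-- A permutation acts on the combinations of `B` as the map with code `M`. -/
def PActs (B : List V) (g : Equiv.Perm V) (M : List ℕ) : Prop :=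
  ∀ r, g (lin B r) = lin B (app M r)

/-- The explicit coordinates: `Γ₀ ≅ 3.M₂₂` is generated by `gx, gy, gf` and `Γ` by these and `gt`,
acting as `Xm, Ym, F0, Sg`; `gw` is the scalar and the form has the code `qv`. -/
structure Model (Γ Γ₀ : Subgroup (Equiv.Perm V)) (q : V → ZMod 2) (B : List V)
    (gx gy gf gw gt : Equiv.Perm V) : Prop where
  two : ∀ v : V, v + v = 0
  length : B.length = 12
  bij : Function.Bijective (fun r : Fin 4096 => lin B r.1)
  add : ∀ γ ∈ Γ, ∀ v w : V, γ (v + w) = γ v + γ w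
  actX : PActs B gx Xm
  actY : PActs B gy Ym
  actF : PActs B gf F0
  actW : PActs B gw Wm
  actT : PActs B gt Sg
  closure0 : Γ₀ = closure ({gx, gy, gf} : Set (Equiv.Perm V))
  closure : Γ = closure ({gx, gy, gf, gt} : Set (Equiv.Perm V))
  mem_w : gw ∈ Γ₀
  not_mem : gt ∉ Γ₀
  cases : ∀ γ ∈ Γ, γ ∈ Γ₀ ∨ gt * γ ∈ Γ₀
  card0 : Nat.card ↥Γ₀ = 1330560
  perfect : ⁅Γ₀, Γ₀⁆ = Γ₀
  form : ∀ r < 4096, q (lin B r) = (qv r : ZMod 2)

variable {Q : Type*} [Group Q]

/-- The permutations of a representation. -/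
def permHom (ρ : Q →* AddMonoid.End V) : Q →* Equiv.Perm V where
  toFun q :=
    { toFun := ρ q
      invFun := ρ q⁻¹
      left_inv := fun v => by rw [← mul_apply', ← map_mul, inv_mul_cancel, map_one, one_apply']
      right_inv := fun v => by rw [← mul_apply', ← map_mul, mul_inv_cancel, map_one, one_apply'] }
  map_one' := Equiv.ext fun v => by
    change ρ 1 v = v
    rw [map_one, one_apply']
  map_mul' a b := Equiv.ext fun v => by
    change ρ (a * b) v = ρ a (ρ b v)
    rw [map_mul, mul_apply']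

theorem permHom_apply (ρ : Q →* AddMonoid.End V) (q : Q) (v : V) : permHom ρ q v = ρ q v := rfl

theorem permHom_injective {ρ : Q →* AddMonoid.End V} (h : Function.Injective ρ) :
    Function.Injective (permHom ρ) := fun _ _ e =>
  h (AddMonoidHom.ext fun v => Equiv.ext_iff.1 e v)

variable {π : Q →* ↥Spor.M22} {p : Q} {ρ : Q →* AddMonoid.End V}

theorem CoverData.card_eq [Finite Q] (C : CoverData π p ρ) : Nat.card Q = 1330560 := by
  have e1 : Nat.card ↥π.ker = 3 := by rw [C.ker, Nat.card_zpowers, C.ord]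
  have e2 : π.ker.index = 443520 := by
    rw [Subgroup.index_ker, MonoidHom.range_eq_top.2 C.surj, Subgroup.card_top]
    exact Compute.card_m22
  rw [← π.ker.card_mul_index, e1, e2]

theorem CoverData.commutator_eq_top (C : CoverData π p ρ) : commutator Q = ⊤ := by
  haveI := C.simple
  have hn : ((commutator Q).map π).Normal := Subgroup.Normal.map inferInstance π C.surj
  rcases hn.eq_bot_or_eq_top with h | h
  · exfalso
    have hx : mx * my = my * mx := by
      obtain ⟨a, ha⟩ := C.surj mx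
      obtain ⟨b, hb⟩ := C.surj my
      have : π ⁅a, b⁆ ∈ (commutator Q).map π :=
        Subgroup.mem_map_of_mem π (Subgroup.commutator_mem_commutator (mem_top a) (mem_top b))
      rw [h, mem_bot, map_commutatorElement, ha, hb, commutatorElement_eq_one_iff_mul_comm] at this
      exact this
    have hr := m22_rels.2.2.2.1
    rw [← hx] at hr
    have h3 : mx ^ 3 = 1 := by
      have := mul_right_cancel hr
      rw [pow_succ] at this
      exact (mul_eq_right.1 this.symm)
    have h1 : mx = 1 := by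
      have := pow_gcd_eq_one.2 ⟨m22_rels.1, h3⟩
      simpa using this
    have hne : Compute.rep24.act gx 1 ≠ 1 := by decide +kernel
    refine hne (Compute.rep24.pt_inj _ _ ?_ (by decide : 1 < 24) ?_)
    · exact Compute.rep24.act_lt _ _ (mem_m22 gx gens_mem.1).1 (by decide : 1 < 24)
    · rw [← Compute.rep24.act_spec gx 1 (mem_m22 gx gens_mem.1).1 (by decide : 1 < 24)]
      exact (congrArg (fun g => g • Compute.rep24.pt 1) (congrArg Subtype.val h1)).trans (one_smul _ _)
  · have e := congrArg (Subgroup.comap π) h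
    rw [Subgroup.comap_map_eq, Subgroup.comap_top, C.ker, sup_eq_left.2 (zpowers_le.2 C.perfect)] at e
    exact e

theorem Acts.pacts {B : List V} {q : Q} {M : List ℕ} (h : Acts B (ρ q) M) :
    PActs B (permHom ρ q) M := h

/-- **The coordinates of the image of the normaliser.** -/
theorem exists_model [Finite V] [Finite Q] (C : CoverData π p ρ) (hinj : Function.Injective ρ)
    (h2 : ∀ v : V, v + v = 0) (hV : Nat.card V = 4096) {Γ Γ₀ : Subgroup (Equiv.Perm V)}
    (hΓ₀ : Γ₀ = (permHom ρ).range) (hle : Γ₀ ≤ Γ) (hadd : ∀ γ ∈ Γ, ∀ v w : V, γ (v + w) = γ v + γ w)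
    (hnorm : ∀ γ ∈ Γ, ∀ δ ∈ Γ₀, γ * δ * γ⁻¹ ∈ Γ₀) {s : Equiv.Perm V} (hs : s ∈ Γ)
    (hinv : s * permHom ρ p * s⁻¹ = permHom ρ p⁻¹) (hcov : ∀ γ ∈ Γ, γ ∈ Γ₀ ∨ s * γ ∈ Γ₀)
    {q : V → ZMod 2} (q0 : q 0 = 0)
    (qadd : ∀ a b c : V, q (a + (b + c)) + q a + q (b + c) =
      (q (a + b) + q a + q b) + (q (a + c) + q a + q c))
    (qinv : ∀ γ ∈ Γ, ∀ v, q (γ v) = q v) (qne : ∃ v, q v ≠ 0) :
    ∃ (B : List V) (gx gy gf gw gt : Equiv.Perm V), Model Γ Γ₀ q B gx gy gf gw gt := by
  obtain ⟨x, y, f, w, B, hx, hy, hf, x11, y5, f4, hw, hgen, hB, P, hF⟩ := C.normal_form h2 hV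
  have hP := permHom_injective hinj
  have hmem : ∀ c, permHom ρ c ∈ Γ₀ := fun c => hΓ₀ ▸ ⟨c, rfl⟩
  -- conjugation by `s` on the cover
  have hex : ∀ c : Q, ∃ d : Q, permHom ρ d = s * permHom ρ c * s⁻¹ := by
    intro c
    have := hnorm s hs _ (hmem c)
    rw [hΓ₀] at this
    exact this
  choose φ hφ using hex
  let Φ : Q →* Q := MonoidHom.mk' φ fun a b => hP (by
    rw [map_mul, hφ, hφ, hφ, map_mul]; group)
  have hΦp : Φ p = p⁻¹ := hP ((hφ p).trans hinv)
  have hΦinj : Function.Injective Φ := fun a b e => hP (by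
    have := congrArg (permHom ρ) e
    change permHom ρ (φ a) = permHom ρ (φ b) at this
    rw [hφ, hφ] at this
    exact mul_left_cancel (mul_right_cancel this))
  have hker : π.ker ≤ (π.comp Φ).ker := by
    intro c hc
    rw [C.ker, mem_zpowers_iff] at hc
    obtain ⟨n, rfl⟩ := hc
    rw [MonoidHom.mem_ker, MonoidHom.comp_apply, map_zpow, hΦp, map_zpow, map_inv]
    have : π p = 1 := by rw [← MonoidHom.mem_ker, C.ker]; exact mem_zpowers p
    rw [this, inv_one, one_zpow]
  let β₀ : ↥Spor.M22 →* ↥Spor.M22 := π.liftOfSurjective C.surj ⟨π.comp Φ, hker⟩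
  have hβ₀ : ∀ c, β₀ (π c) = π (Φ c) := fun c =>
    MonoidHom.liftOfRightInverse_comp_apply π _ _ ⟨π.comp Φ, hker⟩ c
  have hβbij : Function.Bijective β₀ := by
    refine Finite.surjective_iff_bijective.1 fun u => ?_
    obtain ⟨c, rfl⟩ := C.surj u
    obtain ⟨d, rfl⟩ := Finite.surjective_iff_bijective.2
      ((Finite.injective_iff_bijective).1 hΦinj) c
    exact ⟨π d, hβ₀ d⟩
  let β : MulAut ↥Spor.M22 := MulEquiv.ofBijective β₀ hβbij
  have hβ : ∀ c, β (π c) = π (Φ c) := hβ₀
  have hlift : ∀ {a b : Q} {n : ℕ}, n.Coprime 3 → π a = π b → a ^ n = 1 → b ^ n = 1 → a = b :=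
    fun hn h ha hb => C.eq_of_pow hn h ha hb
  -- it is not inner
  have houter : β ∉ (MulAut.conj : ↥Spor.M22 →* MulAut ↥Spor.M22).range := by
    rintro ⟨u, hu⟩
    obtain ⟨c, rfl⟩ := C.surj u
    have key : ∀ {a : Q} {n : ℕ}, n.Coprime 3 → a ^ n = 1 → c * a * c⁻¹ = Φ a := by
      intro a n hn ha
      refine hlift hn ?_ (by rw [conj_pow, ha]; group) (by rw [← map_pow, ha, map_one])
      rw [← hβ, ← hu, MulAut.conj_apply, map_mul, map_mul, map_inv]
    have hle' : closure ({x, y, f} : Set Q) ≤ (MulAut.conj c).toMonoidHom.eqLocus Φ := by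
      rw [closure_le]
      rintro a ha
      simp only [Set.mem_insert_iff, Set.mem_singleton_iff] at ha
      rcases ha with rfl | rfl | rfl
      · exact key (n := 11) (by norm_num) x11
      · exact key (n := 5) (by norm_num) y5
      · exact key (n := 4) (by norm_num) f4
    have h := hle' (hgen ▸ mem_top p : p ∈ closure ({x, y, f} : Set Q))
    change c * p * c⁻¹ = Φ p at h
    rw [hΦp, mem_center_iff.1 C.central c, mul_inv_cancel_right] at h
    have hp2 : p ^ 2 = 1 := by rw [pow_two]; exact eq_inv_iff_mul_eq_one.1 h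
    have := orderOf_dvd_of_pow_eq_one hp2
    rw [C.ord] at this
    norm_num at this
  obtain ⟨α, hα, αx, αy, αf⟩ := exists_outer
  obtain ⟨u, hu⟩ := outer_coset hα houter
  obtain ⟨c, rfl⟩ := C.surj u
  -- the twisted element
  set t : Equiv.Perm V := permHom ρ c⁻¹ * s with ht
  have htΓ : t ∈ Γ := mul_mem (hle (hmem _)) hs
  have tconj : ∀ {a b : Q} {n : ℕ}, n.Coprime 3 → a ^ n = 1 → b ^ n = 1 → α (π a) = π b →
      t * permHom ρ a * t⁻¹ = permHom ρ b := by
    intro a b n hn ha hb hab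
    have e : c⁻¹ * Φ a * c = b := by
      refine hlift hn ?_ ?_ hb
      · rw [map_mul, map_mul, map_inv, ← hβ, hu, MulAut.mul_apply, MulAut.conj_apply, hab]
        group
      · have h1 := conj_pow (a := c⁻¹) (b := Φ a) (i := n)
        rw [inv_inv] at h1
        rw [h1, ← map_pow, ha, map_one]; group
    rw [← e, map_mul, map_mul, show permHom ρ (Φ a) = s * permHom ρ a * s⁻¹ from hφ a, ht, map_inv]
    group
  have tx : t * permHom ρ x * t⁻¹ = permHom ρ (x ^ 10) :=
    tconj (n := 11) (by norm_num) x11 (by rw [← pow_mul, mul_comm, pow_mul, x11, one_pow])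
      (by rw [hx, map_pow, hx, αx])
  have ty : t * permHom ρ y * t⁻¹ = permHom ρ y :=
    tconj (n := 5) (by norm_num) y5 y5 (by rw [hy, αy])
  have tf : t * permHom ρ f * t⁻¹ = permHom ρ f :=
    tconj (n := 4) (by norm_num) f4 f4 (by rw [hf, αf])
  have tp : t * permHom ρ p * t⁻¹ = permHom ρ p⁻¹ := by
    rw [ht, show permHom ρ c⁻¹ * s * permHom ρ p * (permHom ρ c⁻¹ * s)⁻¹ =
      permHom ρ c⁻¹ * (s * permHom ρ p * s⁻¹) * (permHom ρ c⁻¹)⁻¹ by group, hinv, ← map_inv, ← map_mul,
      ← map_mul, inv_inv, mem_center_iff.1 (inv_mem C.central) c⁻¹, inv_mul_cancel_right]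
  have tw : t * permHom ρ w * t⁻¹ = permHom ρ (w * w) := by
    have hp3 : p * p * p = 1 := by
      rw [show p * p * p = p ^ 3 by simp only [pow_succ, pow_zero, one_mul], ← C.ord, pow_orderOf_eq_one]
    have hpi : p⁻¹ = p * p := (eq_inv_of_mul_eq_one_left hp3).symm
    rcases hw with rfl | rfl
    · rw [tp, hpi]
    · rw [map_mul, show t * (permHom ρ p * permHom ρ p) * t⁻¹ =
        t * permHom ρ p * t⁻¹ * (t * permHom ρ p * t⁻¹) by group, tp, hpi]
      simp only [map_mul, mul_assoc]
  let T : AddMonoid.End V := AddMonoidHom.mk' t (hadd t htΓ)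
  have hT : ∀ {a b : Q}, t * permHom ρ a * t⁻¹ = permHom ρ b → T * ρ a = ρ b * T := by
    intro a b e
    refine AddMonoidHom.ext fun v => ?_
    exact Equiv.ext_iff.1 (show t * permHom ρ a = permHom ρ b * t by rw [← e, inv_mul_cancel_right]) v
  obtain ⟨k, hk⟩ : ∃ k : Q, PActs B (permHom ρ k * t) Sg := by
    rcases outer_unique h2 P hF hB (T := T) t.injective
      (by rw [← map_pow]; exact hT tx) (hT ty) (hT tf) (by rw [← map_mul]; exact hT tw) with h | h | h
    · exact ⟨1, fun r => by rw [map_one, one_mul]; exact h r⟩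
    · exact ⟨w * w, fun r => by rw [Equiv.Perm.mul_apply, permHom_apply, map_mul]; exact h r⟩
    · exact ⟨w, fun r => by rw [Equiv.Perm.mul_apply, permHom_apply]; exact h r⟩
  set g : Equiv.Perm V := permHom ρ k * t with hg
  have hgΓ : g ∈ Γ := mul_mem (hle (hmem k)) htΓ
  have hsg : s = permHom ρ (k * c⁻¹)⁻¹ * g := by rw [hg, ht, map_inv, map_mul]; group
  have hnot : g ∉ Γ₀ := by
    intro hmem'
    have : s ∈ Γ₀ := by rw [hsg]; exact mul_mem (hmem _) hmem'
    rw [hΓ₀] at this
    obtain ⟨d, hd⟩ := this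
    rw [← hd, ← map_inv, ← map_mul, ← map_mul] at hinv
    have h := hP hinv
    rw [mem_center_iff.1 C.central d, mul_inv_cancel_right] at h
    have hp2 : p ^ 2 = 1 := by rw [pow_two]; exact eq_inv_iff_mul_eq_one.1 h
    have := orderOf_dvd_of_pow_eq_one hp2
    rw [C.ord] at this
    norm_num at this
  have hclos0 : Γ₀ = Subgroup.closure ({permHom ρ x, permHom ρ y, permHom ρ f} : Set _) := by
    rw [hΓ₀, MonoidHom.range_eq_map, ← hgen, MonoidHom.map_closure]
    simp [Set.image_insert_eq]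
  have hcases : ∀ γ ∈ Γ, γ ∈ Γ₀ ∨ g * γ ∈ Γ₀ := by
    intro γ hγ
    refine (hcov γ hγ).imp_right fun h => ?_
    rw [show g * γ = permHom ρ (k * c⁻¹) * (s * γ) by rw [hg, ht, map_mul]; group]
    exact mul_mem (hmem _) h
  refine ⟨B, permHom ρ x, permHom ρ y, permHom ρ f, permHom ρ w, g,
    ⟨h2, hB, P.bij, hadd, P.x, P.y, hF, P.w, hk, hclos0, ?_, hmem w, hnot, hcases, ?_, ?_, ?_⟩⟩
  · refine le_antisymm (fun γ hγ => ?_) ((closure_le _).2 ?_)
    · have h0 : Γ₀ ≤ Subgroup.closure ({permHom ρ x, permHom ρ y, permHom ρ f, g} : Set _) := by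
        rw [hclos0]
        exact closure_mono (by intro a ha; simp only [Set.mem_insert_iff, Set.mem_singleton_iff] at ha ⊢; tauto)
      rcases hcases γ hγ with h | h
      · exact h0 h
      · have hgc : g ∈ Subgroup.closure ({permHom ρ x, permHom ρ y, permHom ρ f, g} : Set _) :=
          subset_closure (by simp)
        have := mul_mem (inv_mem hgc) (h0 h)
        rwa [inv_mul_cancel_left] at this
    · simp only [Set.insert_subset_iff, Set.singleton_subset_iff, SetLike.mem_coe]
      exact ⟨hle (hmem x), hle (hmem y), hle (hmem f), hgΓ⟩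
  · rw [hΓ₀, Nat.card_congr (MonoidHom.ofInjective hP).symm.toEquiv, C.card_eq]
  · rw [hΓ₀, MonoidHom.range_eq_map, ← map_commutator, ← _root_.commutator_def, C.commutator_eq_top]
  · intro r hr
    let b : V → Bool := fun v => decide (q v = 1)
    have two : ∀ a : ZMod 2, a = 0 ∨ a = 1 := by decide
    have hbq : ∀ v, q v = if b v then 1 else 0 := by
      intro v; rcases two (q v) with h | h <;> simp [b, h]
    have hbadd : IsQuad b := by
      refine ⟨by simp [b, q0], fun a v w => ?_⟩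
      have := qadd a v w
      simp only [hbq] at this
      simp only [pol]
      revert this
      cases b a <;> cases b v <;> cases b w <;> cases b (v + w) <;> cases b (a + v) <;>
        cases b (a + w) <;> cases b (a + (v + w)) <;> decide
    have hinvb : ∀ {γ}, γ ∈ Γ → ∀ v, b (γ v) = b v := fun hγ v => by simp only [b, qinv _ hγ]
    have := qv_unique P hF hB hbadd (hinvb (hle (hmem x))) (hinvb (hle (hmem y)))
      (hinvb (hle (hmem f))) (hinvb (hle (hmem w)))
      (qne.imp fun v hv => decide_eq_true ((two (q v)).resolve_left hv)) r hr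
    rw [hbq, this]
    have hlt : qv r < 2 := Nat.mod_lt _ Nat.two_pos
    interval_cases qv r <;> rfl

end Cfsg.Agent.J4Type.Rep
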