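import Cfsg.Agent.J4Type.Rep.Eleven

/-!
# Uniqueness of the six-dimensional representation of the triple cover of M22

Three maps satisfying the relations of the standard generators have, in a suitable basis, the
matrices `Xm`, `Ym`, `F0`, and the scalar of order three is `Wm` or its square.
-/

set_option autoImplicit false

namespace Cfsg.Agent.J4Type.Rep

variable {V : Type*} [AddCommGroup V]

/-- The relations of the standard generators and the scalar. -/
structure Rels (X Y F W : AddMonoid.End V) : Prop where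
  xy : Y * X = X ^ 4 * Y
  x11 : X ^ 11 = 1
  y5 : Y ^ 5 = 1
  f4 : F ^ 4 = 1
  fy : F * Y = Y ^ 2 * F
  wx : W * X = X * W
  wy : W * Y = Y * W
  wf : W * F = F * W
  w3 : W ^ 3 = 1
  wfree : ∀ v, W v = v → v = 0
  xne : X ≠ 1
  rel : (X * Y * F) ^ 5 = 1 ∨ (X * Y * F) ^ 5 = W ∨ (X * Y * F) ^ 5 = W * W

variable {X Y F W : AddMonoid.End V}

theorem Rels.w4 (R : Rels X Y F W) : W * W * (W * W) = W := by
  rw [show W * W * (W * W) = W ^ 3 * W by simp only [pow_succ, pow_zero, one_mul, mul_assoc], R.w3,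
    one_mul]

theorem Rels.square (R : Rels X Y F W) : Rels X Y F (W * W) where
  xy := R.xy
  x11 := R.x11
  y5 := R.y5
  f4 := R.f4
  fy := R.fy
  wx := (Commute.mul_left R.wx R.wx : Commute (W * W) X)
  wy := (Commute.mul_left R.wy R.wy : Commute (W * W) Y)
  wf := (Commute.mul_left R.wf R.wf : Commute (W * W) F)
  w3 := by rw [← pow_two, ← pow_mul, mul_comm, pow_mul, R.w3, one_pow]
  wfree v h := R.wfree v (by
    have : (W * W * (W * W)) v = v := by rw [mul_apply', h, h]
    rwa [R.w4] at this)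
  xne := R.xne
  rel := by
    rw [R.w4]
    rcases R.rel with h | h | h
    · exact Or.inl h
    · exact Or.inr (Or.inr h)
    · exact Or.inr (Or.inl h)

theorem Rels.quad (R : Rels X Y F W) (v : V) : W (W v) + W v + v = 0 := by
  refine R.wfree _ ?_
  have h3 : W (W (W v)) = v := by
    have := congrArg (fun T : AddMonoid.End V => T v) R.w3
    simpa [pow_succ, mul_apply', one_apply'] using this
  rw [map_add, map_add, h3]
  abel

theorem apply_comm {S T : AddMonoid.End V} (h : S * T = T * S) (v : V) : S (T v) = T (S v) :=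
  congrArg (fun U : AddMonoid.End V => U v) h

theorem beqI {a b : ℕ} (h : a = b) : Nat.beq a b = true := by rw [Nat.beq_eq]; exact h

theorem beqE {a b : ℕ} (h : Nat.beq a b = true) : a = b := by rwa [Nat.beq_eq] at h

theorem bleE {a b : ℕ} (h : Nat.ble a b = true) : a ≤ b := by rwa [Nat.ble_eq] at h

theorem take_Xm : Xm.take 10 = Xk := by decide +kernel

theorem take_Ym : Ym.take 10 = Yk := by decide +kernel

theorem Xk_lt : ∀ a ∈ Xk, a < 2 ^ 10 := by decide +kernel

theorem Yk_lt : ∀ a ∈ Yk, a < 2 ^ 10 := by decide +kernel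

theorem it_lt {r : ℕ} (hr : r < 2 ^ 10) : ∀ n, it Xk n r < 2 ^ 10
  | 0 => hr
  | _ + 1 => app_lt Xk_lt _

theorem acts_BK_Y (h2 : ∀ v : V, v + v = 0) (R : Rels X Y F W) {v : V} (hv : Nn X v = 0)
    (hY : Y v = v) : Acts (BK X v) Y Yk := by
  refine acts_of_map h2 ?_
  rw [Yk_eq, List.map_map, BK, List.map_map]
  refine List.map_congr_left fun i _ => ?_
  change Y ((X ^ i) v) = lin (BK X v) (it Xk (4 * i) 1)
  rw [← (acts_BK h2 hv).it, lin_BK_one, ← mul_apply', Y_pow R.xy, mul_apply', hY]

theorem W_BK (h2 : ∀ v : V, v + v = 0) (R : Rels X Y F W) {v : V} (hv : Nn X v = 0) {r : ℕ}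
    (h : W v = lin (BK X v) r) : Acts (BK X v) W (iterX r) := by
  refine acts_of_map h2 ?_
  rw [iterX, List.map_map, BK, List.map_map]
  refine List.map_congr_left fun i _ => ?_
  change W ((X ^ i) v) = lin (BK X v) (it Xk i r)
  rw [← (acts_BK h2 hv).it, ← h]
  exact apply_comm ((Commute.pow_right R.wx i : Commute W (X ^ i))) v

theorem iterX_lt {r : ℕ} (hr : r < 2 ^ 10) : ∀ a ∈ iterX r, a < 2 ^ 10 := by
  intro a ha
  obtain ⟨i, -, rfl⟩ := List.mem_map.1 ha
  exact it_lt hr i

theorem W_kernel (R : Rels X Y F W) {v : V} (hv : Nn X v = 0) : Nn X (W v) = 0 := by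
  rw [Nn, Finset.sum_congr rfl fun j _ =>
    (apply_comm ((Commute.pow_right R.wx j : Commute W (X ^ j))) v).symm, ← map_sum]
  rw [show ∑ j ∈ Finset.range 11, (X ^ j) v = Nn X v from rfl, hv, map_zero]

theorem exists_omega [Finite V] (h2 : ∀ v : V, v + v = 0) (hV : Nat.card V = 4096)
    (R : Rels X Y F W) {v : V} (hv0 : v ≠ 0) (hv : Nn X v = 0) (hY : Y v = v) :
    W v = lin (BK X v) 570 ∨ (W * W) v = lin (BK X v) 570 := by
  obtain ⟨r, hr, hWv⟩ := exists_code_of_kernel h2 hV R.x11 R.xne hv hv0 (W_kernel R hv)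
  have hA := W_BK h2 R hv hWv
  have hX := acts_BK (X := X) h2 hv
  have e1 : app Yk r = r := lin_BK_inj h2 hX hv0 (app_lt (n := 10) Yk_lt r) hr (by
    rw [← acts_BK_Y h2 R hv hY, ← hWv, ← apply_comm R.wy, hY])
  have e2 : app (iterX r) r ^^^ r ^^^ 1 = 0 :=
    lin_BK_eq_zero h2 hX hv0 (Nat.xor_lt_two_pow (n := 10) (Nat.xor_lt_two_pow
      (app_lt (n := 10) (iterX_lt hr) r) hr) (by norm_num)) (by
        rw [lin_xor h2, lin_xor h2, ← hA, ← hWv, lin_BK_one, R.quad])
  have h := List.all_eq_true.1 omega_ok r (List.mem_range.2 hr)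
  have hb : (Nat.beq (app Yk r) r && Nat.beq (Nat.xor (Nat.xor (app (iterX r) r) r) 1) 0) = true := by
    rw [Bool.and_eq_true, Nat.beq_eq, Nat.beq_eq]
    exact ⟨e1, e2⟩
  rw [hb] at h
  simp only [Bool.not_true, Bool.false_or, Bool.or_eq_true, Nat.beq_eq] at h
  rcases h with h | h
  · exact Or.inl (h ▸ hWv)
  · subst h
    refine Or.inr ?_
    have e := R.quad v
    rw [mul_apply', add_assoc] at *
    rw [add_eq_zero_iff_eq_neg.1 e, neg_eq_of_add_eq_zero_left (h2 _), hWv,
      show (571 : ℕ) = 570 ^^^ 1 from rfl, lin_xor h2, lin_BK_one, add_assoc, h2, add_zero]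

/-- A coordinate system: every vector has exactly one code, and the maps have the listed matrices. -/
structure Frame (B : List V) (X Y W : AddMonoid.End V) : Prop where
  bij : Function.Bijective (fun r : Fin 4096 => lin B r.1)
  x : Acts B X Xm
  y : Acts B Y Ym
  w : Acts B W Wm

theorem BK_code (B : List V) (hB : B.length = 10) (C : List V) {r : ℕ} (hr : r < 2 ^ 10) :
    lin (B ++ C) r = lin B r := by
  rw [lin_append, hB, Nat.div_eq_of_lt hr, lin_zero, add_zero]

theorem lin_low : ∀ (B : List V) (r s : ℕ), r % 2 ^ B.length = s % 2 ^ B.length → lin B r = lin B s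
  | [], _, _, _ => rfl
  | b :: B, r, s, h => by
    rw [List.length_cons, pow_succ'] at h
    have h1 : r % 2 = s % 2 := by
      have := congrArg (· % 2) h
      simpa [Nat.mod_mul_right_mod] using this
    have h3 : r / 2 % 2 ^ B.length = s / 2 % 2 ^ B.length := by
      have := congrArg (· / 2) h
      rwa [Nat.mod_mul_right_div_self, Nat.mod_mul_right_div_self] at this
    rw [lin_cons, lin_cons, h1, lin_low B _ _ h3]

theorem exists_frame [Finite V] (h2 : ∀ v : V, v + v = 0) (hV : Nat.card V = 4096)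
    (R : Rels X Y F W) {v e : V} (hv0 : v ≠ 0) (hv : Nn X v = 0) (hY : Y v = v)
    (hW : W v = lin (BK X v) 570) (he : X e = e) (he0 : e ≠ 0) :
    Frame (BK X v ++ [e, W e]) X Y W := by
  set B := BK X v ++ [e, W e] with hBdef
  have hl := BK_length X v
  have hK : ∀ {r}, r < 2 ^ 10 → lin B r = lin (BK X v) r := fun hr => BK_code _ hl _ hr
  have hWe : X (W e) = W e := by rw [← apply_comm R.wx, he]
  have h1024 : lin B 1024 = e := by
    rw [hBdef, lin_append, hl, lin_low (BK X v) 1024 0 (by rw [hl]; rfl), lin_zero]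
    simp [lin]
  have h2048 : lin B 2048 = W e := by
    rw [hBdef, lin_append, hl, lin_low (BK X v) 2048 0 (by rw [hl]; rfl), lin_zero]
    simp [lin]
  have mk : ∀ {T : AddMonoid.End V} {M : List ℕ} {Mk : List ℕ} {a b : ℕ},
      M = Mk ++ [a, b] → (∀ c ∈ Mk, c < 2 ^ 10) → (BK X v).map T = Mk.map (lin (BK X v)) →
      T e = lin B a → T (W e) = lin B b → Acts B T M := by
    intro T M Mk a b hM hlt hk ha hb
    refine acts_of_map h2 ?_
    rw [hM, List.map_append, hBdef, List.map_append, hk, ← hBdef]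
    simp only [List.map_cons, List.map_nil, ha, hb]
    congr 1
    exact List.map_congr_left fun c hc => (hK (hlt c hc)).symm
  have map_of_acts : ∀ {T : AddMonoid.End V} {M : List ℕ}, M.length = 10 → Acts (BK X v) T M →
      (BK X v).map T = M.map (lin (BK X v)) := by
    intro T M hM hA
    refine List.ext_getElem (by simp [hl, hM]) fun i h₁ h₂ => ?_
    have hi : i < 10 := by simpa [hl] using h₁
    rw [List.getElem_map, List.getElem_map]
    have h := hA (2 ^ i)
    rw [lin_two_pow _ _ (by omega), lin_app h2, lin_two_pow _ _ (by simp [hM, hi]),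
      List.getElem_map] at h
    exact h
  refine ⟨?_, ?_, ?_, ?_⟩
  · refine (Nat.bijective_iff_injective_and_card _).2 ⟨?_, by rw [Nat.card_fin, hV]⟩
    suffices h : ∀ r, r < 4096 → lin B r = 0 → r = 0 by
      intro r s hrs
      have := h (r.1 ^^^ s.1) (Nat.xor_lt_two_pow (n := 12) r.2 s.2)
        (by rw [lin_xor h2, show lin B r.1 = lin B s.1 from hrs, h2])
      refine Fin.ext (Nat.eq_of_testBit_eq fun i => ?_)
      have e := congrArg (fun n => Nat.testBit n i) this
      simp only [Nat.testBit_xor, Nat.zero_testBit] at e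
      revert e
      cases r.1.testBit i <;> cases s.1.testBit i <;> simp
    intro r hr h
    rw [hBdef, lin_append, hl, lin_low (BK X v) r (r % 1024) (by rw [hl]; omega)] at h
    have hfix : X (lin [e, W e] (r / 2 ^ 10)) = lin [e, W e] (r / 2 ^ 10) := by
      simp only [lin_cons, lin_nil, map_add, apply_ite, he, hWe, map_zero]
    obtain ⟨ha, hb⟩ := split_zero h2 R.x11 hv hv0 hfix (Nat.mod_lt _ (by norm_num)) h
    have hq : r / 2 ^ 10 < 4 := by omega
    generalize hq' : r / 2 ^ 10 = q at hb hq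
    suffices q = 0 by omega
    interval_cases q
    · rfl
    · simp [lin] at hb; exact absurd hb he0
    · simp [lin] at hb
      exact absurd (by
        have := congrArg (fun x => W (W x)) hb
        simp only [map_zero] at this
        rw [← mul_apply', ← mul_apply', show W * W * W = W ^ 3 by simp only [pow_succ, pow_zero, one_mul], R.w3] at this
        exact this : e = 0) he0
    · simp [lin] at hb
      refine absurd (R.wfree e ?_) he0
      exact ((add_eq_zero_iff_eq_neg.1 hb).trans (neg_eq_of_add_eq_zero_left (h2 _))).symm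
  · refine mk (Mk := Xk) (by decide +kernel) Xk_lt (map_of_acts rfl (acts_BK h2 hv))
      (a := 1024) (b := 2048) ?_ ?_
    · rw [h1024, he]
    · rw [h2048, hWe]
  · refine mk (Mk := Yk) (by decide +kernel) Yk_lt (map_of_acts rfl (acts_BK_Y h2 R hv hY))
      (a := 1024) (b := 2048) ?_ ?_
    · rw [h1024, fixes_plane h2 hV R.x11 R.xne R.y5 R.xy he]
    · rw [h2048, fixes_plane h2 hV R.x11 R.xne R.y5 R.xy hWe]
  · refine mk (Mk := iterX 570) (by decide +kernel) (iterX_lt (by norm_num))
      (map_of_acts (by simp [iterX]) (W_BK h2 R hv hW)) (a := 2048) (b := 3072) ?_ ?_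
    · rw [h2048]
    · rw [show (3072 : ℕ) = 1024 ^^^ 2048 from rfl, lin_xor h2, h1024, h2048]
      have e3 := R.quad e
      rw [add_assoc] at e3
      rw [add_eq_zero_iff_eq_neg.1 e3, neg_eq_of_add_eq_zero_left (h2 _), add_comm]

theorem Frame.code {B : List V} (P : Frame B X Y W) (u : V) : ∃ r, r < 4096 ∧ u = lin B r := by
  obtain ⟨r, hr⟩ := P.bij.2 u
  exact ⟨r, r.2, hr.symm⟩

theorem Frame.eq_code {B : List V} (P : Frame B X Y W) {r s : ℕ} (hr : r < 4096) (hs : s < 4096)
    (h : lin B r = lin B s) : r = s :=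
  congrArg Fin.val (P.bij.1 (a₁ := ⟨r, hr⟩) (a₂ := ⟨s, hs⟩) h)

theorem Xm_lt : ∀ a ∈ Xm, a < 2 ^ 12 := by decide +kernel

theorem Ym_lt : ∀ a ∈ Ym, a < 2 ^ 12 := by decide +kernel

theorem Wm_lt : ∀ a ∈ Wm, a < 2 ^ 12 := by decide +kernel

theorem qa_lt (r : ℕ) (hr : r < 2 ^ 12) : qa r < 2 ^ 12 :=
  Nat.xor_lt_two_pow (Nat.xor_lt_two_pow (app_lt Ym_lt _) (app_lt Wm_lt _)) hr

theorem qb_lt (r : ℕ) (hr : r < 2 ^ 12) : qb r < 2 ^ 12 :=
  Nat.xor_lt_two_pow (Nat.xor_lt_two_pow (app_lt Ym_lt _) (app_lt Wm_lt _)) hr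

theorem src_get : src[0]? = some 1 ∧ src[2]? = some 1024 := ⟨rfl, rfl⟩

theorem exists_survivor (h2 : ∀ v : V, v + v = 0) {B : List V} (P : Frame B X Y W) (hB : B.length = 12)
    (R : Rels X Y F W) : Acts B F F0 ∨ Acts B F F1 ∨ Acts B F F2 := by
  have hfy : ∀ u, F (Y u) = Y (Y (F u)) := fun u => by
    have := congrArg (fun T : AddMonoid.End V => T u) R.fy
    simpa only [pow_two, mul_apply'] using this
  have hwf : ∀ u, F (W u) = W (F u) := fun u => (apply_comm R.wf u).symm
  obtain ⟨a, ha, ea⟩ := P.code (F (lin B 1))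
  obtain ⟨b, hb, eb⟩ := P.code (F (lin B 1024))
  obtain ⟨c, hc, ec⟩ := P.code (F (lin B 7))
  obtain ⟨d, hd, ed⟩ := P.code (F (lin B 21))
  have hY1 : app Ym 1 = 1 := by decide +kernel
  have hY1024 : app Ym 1024 = 1024 := by decide +kernel
  have mem0 : ∀ {r s}, r < 4096 → app Ym s = s → F (lin B s) = lin B r → r ∈ L0 := by
    intro r s hr hs h
    refine List.mem_filter.2 ⟨List.mem_range.2 hr, beqI ?_⟩
    refine P.eq_code (app_lt Ym_lt _) hr ?_
    rw [← P.y, ← P.y, ← h, ← hfy, P.y, hs]
  have ha' := mem0 ha hY1 ea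
  have hb' := mem0 hb hY1024 eb
  have hc' : c ∈ La := by
    refine List.mem_filter.2 ⟨List.mem_range.2 hc, beqI ?_⟩
    refine P.eq_code (qa_lt c hc) (by norm_num) ?_
    have h7 : app Ym (app Ym 7) ^^^ app Wm (app Ym 7) ^^^ 7 = 0 := beqE qa_ok
    have := congrArg (fun r => F (lin B r)) h7
    simp only [lin_xor h2, ← P.y _, ← P.w _, lin_zero, map_add, map_zero, hfy, hwf, ec] at this
    change lin B (app Ym (app Ym (app Ym (app Ym c))) ^^^ app Wm (app Ym (app Ym c)) ^^^ c) = _
    simp only [lin_xor h2, ← P.y _, ← P.w _, lin_zero]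
    exact this
  have hd' : d ∈ Lb := by
    refine List.mem_filter.2 ⟨List.mem_range.2 hd, beqI ?_⟩
    refine P.eq_code (qb_lt d hd) (by norm_num) ?_
    have h21 : app Ym (app Ym 21) ^^^ app Wm (app Wm (app Ym 21)) ^^^ 21 = 0 := beqE qb_ok
    have := congrArg (fun r => F (lin B r)) h21
    simp only [lin_xor h2, ← P.y _, ← P.w _, lin_zero, map_add, map_zero, hfy, hwf, ed] at this
    change lin B (app Ym (app Ym (app Ym (app Ym d))) ^^^ app Wm (app Wm (app Ym (app Ym d))) ^^^ d) = _
    simp only [lin_xor h2, ← P.y _, ← P.w _, lin_zero]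
    exact this
  have himg : (src.map (lin B)).map F = (img a b c d).map (lin B) := by
    simp only [src, img, List.map_cons, List.map_nil, ← P.y _, ← P.w _, hfy, hwf, ea, eb, ec, ed]
  have hF : ∀ t, F (lin B (app src t)) = lin B (app (img a b c d) t) := fun t => by
    rw [lin_app h2 B src t, lin_app h2 B (img a b c d) t, ← himg]
    exact map_lin (F : V →+ V) _ t
  have hget : ∀ (i : ℕ) (hi : i < 12), app src (coef[i]'(by simp [coef]; omega)) = 2 ^ i := by
    intro i hi
    have := congrArg (fun L => L[i]?) coef_ok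
    simp only [List.getElem?_map, List.getElem?_range hi,
      List.getElem?_eq_getElem (show i < coef.length by simp [coef]; omega), Option.map_some,
      Option.some.injEq] at this
    exact this
  have hM : Acts B F (mkF a b c d) := by
    refine acts_of_map h2 (List.ext_getElem (by simp [hB, mkF, coef]) fun i h₁ h₂ => ?_)
    have hi : i < 12 := by simpa [hB] using h₁
    simp only [mkF, List.getElem_map]
    rw [← hF, hget i hi, lin_two_pow _ _ (by omega)]
  have himg_lt : ∀ r ∈ img a b c d, r < 2 ^ 12 := by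
    simp only [img, List.forall_mem_cons, List.forall_mem_nil, forall_const, and_true]
    exact ⟨ha, app_lt Wm_lt _, hb, app_lt Wm_lt _, hc, app_lt Wm_lt _, app_lt Ym_lt _, app_lt Ym_lt _,
      hd, app_lt Wm_lt _, app_lt Ym_lt _, app_lt Ym_lt _, fun r hr => absurd hr List.not_mem_nil⟩
  have hM_lt : ∀ r ∈ mkF a b c d, r < 2 ^ 12 := by
    intro r hr
    obtain ⟨t, -, rfl⟩ := List.mem_map.1 hr
    exact app_lt himg_lt _
  have h4 : ∀ u, F (F (F (F u))) = u := fun u => by
    have := congrArg (fun T : AddMonoid.End V => T u) R.f4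
    simpa [pow_succ, mul_apply', one_apply'] using this
  have hfx : ∀ {s}, s ∈ L0 → F (lin B s) = lin B (fx a b s) ∧ fx a b s ∈ L0 := by
    intro s hs
    have hcs := bleE (List.all_eq_true.1 L0_coord s hs)
    have hsl := List.mem_range.1 (List.mem_filter.1 hs).1
    have hsy := beqE (List.mem_filter.1 hs).2
    have hlin : F (lin B (app src (app coef s))) = lin B (fx a b s) := by
      rw [hF, lin_app h2 B (img a b c d), fx, lin_app h2 B (img4 a b)]
      have : img a b c d = img4 a b ++ (img a b c d).drop 4 := rfl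
      rw [this, List.map_append, lin_append]
      rw [show ((img4 a b).map (lin B)).length = 4 from rfl,
        Nat.div_eq_of_lt (show app coef s < 2 ^ 4 by omega), lin_zero, add_zero]
    have hback : lin B (app src (app coef s)) = lin B s := by
      rw [lin_app h2 B src (app coef s), lin_app h2 (src.map (lin B)) coef s]
      have e1 : coef.map (lin (src.map (lin B))) = (coef.map (app src)).map (lin B) := by
        rw [List.map_map]
        exact List.map_congr_left fun t _ => (lin_app h2 B src t).symm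
      have e2 : ((List.range 12).map (2 ^ ·)).map (lin B) = B := by
        refine List.ext_getElem (by simp [hB]) fun i h₁ h₂ => ?_
        simp only [List.getElem_map, List.getElem_range]
        exact lin_two_pow B i (by omega)
      rw [e1, coef_ok, e2]
    rw [hback] at hlin
    refine ⟨hlin, List.mem_filter.2 ⟨List.mem_range.2 ?_, beqI ?_⟩⟩
    · refine app_lt (n := 12) ?_ _
      simp only [img4, List.forall_mem_cons, List.forall_mem_nil, forall_const, and_true]
      exact ⟨ha, app_lt Wm_lt _, hb, app_lt Wm_lt _, fun r hr => absurd hr List.not_mem_nil⟩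
    · refine P.eq_code (app_lt Ym_lt _) ?_ ?_
      · refine app_lt (n := 12) ?_ _
        simp only [img4, List.forall_mem_cons, List.forall_mem_nil, forall_const, and_true]
        exact ⟨ha, app_lt Wm_lt _, hb, app_lt Wm_lt _, fun r hr => absurd hr List.not_mem_nil⟩
      · rw [← P.y, ← P.y, ← hlin]
        have : Y (Y (lin B s)) = lin B s := by rw [P.y, P.y, hsy]
        have h5 : Y (lin B s) = lin B s := fix_of_pow_fix R.y5 (k := 2) (j := 3) (by norm_num)
          (by rw [pow_two, mul_apply', this])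
        rw [← hfy, h5]
  have pc : pairCond a b = true := by
    have key : ∀ {s}, s ∈ L0 → fx a b (fx a b (fx a b (fx a b s))) = s := by
      intro s hs
      obtain ⟨e1, m1⟩ := hfx hs
      obtain ⟨e2, m2⟩ := hfx m1
      obtain ⟨e3, m3⟩ := hfx m2
      obtain ⟨e4, m4⟩ := hfx m3
      refine P.eq_code (List.mem_range.1 (List.mem_filter.1 m4).1)
        (List.mem_range.1 (List.mem_filter.1 hs).1) ?_
      rw [← e4, ← e3, ← e2, ← e1, h4]
    rw [pairCond, Bool.and_eq_true, Nat.beq_eq, Nat.beq_eq]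
    refine ⟨key (List.mem_filter.2 ⟨List.mem_range.2 (by norm_num), beqI ?_⟩),
      key (List.mem_filter.2 ⟨List.mem_range.2 (by norm_num), beqI ?_⟩)⟩
    · rw [hY1, hY1]
    · rw [hY1024, hY1024]
  have ho : ordFour (mkF a b c d) = true := List.all_eq_true.2 fun i hi => beqI <| by
    refine P.eq_code (app_lt hM_lt _)
      (Nat.pow_lt_pow_right one_lt_two (List.mem_range.1 hi)) ?_
    rw [← hM, ← hM, ← hM, ← hM, h4]
  have hfive : ∀ r, ((X * Y * F) ^ 5) (lin B r) = lin B (five (mkF a b c d) r) := by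
    intro r
    have e : ∀ r, (X * Y * F) (lin B r) = lin B (prodXYF (mkF a b c d) r) := fun r => by
      rw [mul_apply', mul_apply', hM, P.y, P.x]; rfl
    rw [pow_succ_apply, pow_succ_apply, pow_succ_apply, pow_succ_apply, pow_one, e, e, e, e, e]
    rfl
  have hrs : relScal (mkF a b c d) = true := by
    have l5 : ∀ r, five (mkF a b c d) r < 4096 := fun r => app_lt Xm_lt _
    simp only [relScal, Bool.or_eq_true, List.all_eq_true, Nat.beq_eq]
    rcases R.rel with h | h | h
    · refine Or.inl (Or.inl fun i hi => P.eq_code (l5 _)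
        (Nat.pow_lt_pow_right one_lt_two (List.mem_range.1 hi)) ?_)
      rw [← hfive, h, one_apply']
    · refine Or.inl (Or.inr fun i _ => P.eq_code (l5 _) (app_lt Wm_lt _) ?_)
      rw [← hfive, h, P.w]
    · refine Or.inr fun i _ => P.eq_code (l5 _) (app_lt Wm_lt _) ?_
      rw [← hfive, h, mul_apply', P.w, P.w]
  have hs := List.all_eq_true.1 (List.all_eq_true.1 search_ok a ha') b hb'
  rw [pc] at hs
  simp only [Bool.not_true, Bool.false_or] at hs
  have hh := List.all_eq_true.1 (List.all_eq_true.1 hs c hc') d hd'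
  simp only [ho, hrs, Bool.and_true, Bool.not_true, Bool.false_or, Bool.or_eq_true, eqL,
    decide_eq_true_eq] at hh
  rcases hh with (h | h) | h
  · exact Or.inl (h ▸ hM)
  · exact Or.inr (Or.inl (h ▸ hM))
  · exact Or.inr (Or.inr (h ▸ hM))

end Cfsg.Agent.J4Type.Rep
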